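import Mathlib

/-! The subgroup generated by the derangements of a transitive action. -/

namespace Cfsg.Agent.Lib.RecogThree.Derangements

open MulAction
open scoped Pointwise

variable (G Y : Type*) [Group G] [MulAction G Y]

/-- subgroup generated by the derangements -/
def D : Subgroup G := Subgroup.closure {g : G | ∀ y : Y, g • y ≠ y}

theorem D_normal : (D G Y).Normal := by
  constructor
  intro x hx h
  induction hx using Subgroup.closure_induction with
  | mem x hx =>
    refine Subgroup.subset_closure fun y hy => hx (h⁻¹ • y) ?_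
    have hy' := congrArg (h⁻¹ • ·) hy
    simpa [mul_smul] using hy'
  | one => simp
  | mul a b _ _ ha hb =>
    have : h * (a * b) * h⁻¹ = (h * a * h⁻¹) * (h * b * h⁻¹) := by group
    rw [this]; exact Subgroup.mul_mem _ ha hb
  | inv a _ ha =>
    have : h * a⁻¹ * h⁻¹ = (h * a * h⁻¹)⁻¹ := by group
    rw [this]; exact Subgroup.inv_mem _ ha

variable {G Y}

theorem exists_fixed_of_not_mem {g : G} (hg : g ∉ D G Y) : ∃ y : Y, g • y = y := by
  by_contra h
  exact hg (Subgroup.subset_closure fun y hy => h ⟨y, hy⟩)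

/-- Jordan: a transitive action on at least two points has a derangement. -/
theorem exists_derangement [Finite G] [Finite Y] [IsPretransitive G Y] (h2 : 1 < Nat.card Y) :
    ∃ g : G, ∀ y : Y, g • y ≠ y := by
  classical
  have := Fintype.ofFinite G
  have := Fintype.ofFinite Y
  by_contra h
  push Not at h
  have hB := sum_card_fixedBy_eq_card_orbits_mul_card_group G Y
  have hne : Nonempty Y := (Nat.card_pos_iff.1 (lt_trans zero_lt_one h2)).1
  have hsub : Subsingleton (orbitRel.Quotient G Y) :=
    (pretransitive_iff_subsingleton_quotient G Y).1 inferInstance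
  have h1 : Fintype.card (Quotient (orbitRel G Y)) = 1 := by
    have : Nonempty (Quotient (orbitRel G Y)) := hne.map Quotient.mk''
    exact le_antisymm (Fintype.card_le_one_iff_subsingleton.2 hsub) Fintype.card_pos
  rw [h1, one_mul] at hB
  have hlt : ∑ _g : G, 1 < ∑ g : G, Fintype.card (fixedBy Y g) := by
    refine Finset.sum_lt_sum (fun g _ => ?_) ⟨1, Finset.mem_univ _, ?_⟩
    · obtain ⟨y, hy⟩ := h g
      exact Fintype.card_pos_iff.2 ⟨⟨y, hy⟩⟩
    · have hu : fixedBy Y (1 : G) = Set.univ := by ext; simp
      simpa [hu, ← Nat.card_eq_fintype_card] using h2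
  rw [hB] at hlt
  simp at hlt

variable (G Y) in
theorem D_pretransitive [Finite G] [Finite Y] [IsPretransitive G Y] :
    IsPretransitive ↥(D G Y) Y := by
  have hN := D_normal G Y
  rw [pretransitive_iff_subsingleton_quotient]
  by_contra hS
  have hnt : Nontrivial (orbitRel.Quotient (D G Y) Y) := not_subsingleton_iff_nontrivial.1 hS
  obtain ⟨q, q', hqq⟩ := hnt
  obtain ⟨a, rfl⟩ := Quotient.mk''_surjective q
  obtain ⟨b, rfl⟩ := Quotient.mk''_surjective q'
  -- blocks given by the orbits of D
  let B : Set Y := orbit (D G Y) a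
  have hB : IsBlock G B := IsBlock.orbit_of_normal a
  have hBne : B.Nonempty := ⟨a, mem_orbit_self a⟩
  let T := orbit G B
  have h2 : 1 < Nat.card T := by
    obtain ⟨g, hg⟩ := exists_smul_eq G a b
    rw [Finite.one_lt_card_iff_nontrivial]
    refine ⟨⟨⟨B, mem_orbit_self B⟩, ⟨g • B, mem_orbit _ g⟩, fun he => hqq ?_⟩⟩
    have he' : B = g • B := congrArg Subtype.val he
    have hb : b ∈ B := by
      rw [he', ← hg]; exact Set.smul_mem_smul_set (mem_orbit_self a)
    exact (Quotient.eq''.2 (show orbitRel (D G Y) Y b a from hb)).symm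
  obtain ⟨g, hg⟩ := exists_derangement (G := G) (Y := T) h2
  have hgD : g ∈ D G Y := by
    refine Subgroup.subset_closure fun y hy => ?_
    obtain ⟨h, hh⟩ := exists_smul_eq G a y
    refine hg ⟨h • B, mem_orbit _ h⟩ (Subtype.ext ?_)
    change g • h • B = h • B
    rw [smul_smul]
    refine (hB.smul_eq_smul_or_disjoint (g * h) h).resolve_right fun hd => ?_
    refine Set.disjoint_left.1 hd (Set.smul_mem_smul_set (mem_orbit_self a)) ?_
    rw [mul_smul, hh, hy, ← hh]
    exact Set.smul_mem_smul_set (mem_orbit_self a)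
  refine hg ⟨B, mem_orbit_self B⟩ (Subtype.ext ?_)
  change g • B = B
  refine (hB.smul_eq_or_disjoint g).resolve_right fun hd => ?_
  have h1 : g • a ∈ B := ⟨⟨g, hgD⟩, rfl⟩
  exact Set.disjoint_left.1 hd (Set.smul_mem_smul_set (mem_orbit_self a)) h1

/-- Every element outside `D` fixes exactly one point. -/
theorem card_fixedBy_eq_one [Finite G] [Finite Y] [IsPretransitive G Y] {g : G} (hg : g ∉ D G Y) :
    Nat.card (fixedBy Y g) = 1 := by
  classical
  have := Fintype.ofFinite G
  have := Fintype.ofFinite Y
  have := D_pretransitive G Y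
  let f : ↥(D G Y) → ℕ := fun d => (Finset.univ.filter fun y : Y => (g * d) • y = y).card
  have hpos : ∀ d, 1 ≤ f d := by
    intro d
    have : g * (d : G) ∉ D G Y := fun h => hg (by simpa using Subgroup.mul_mem _ h (Subgroup.inv_mem _ d.2))
    obtain ⟨y, hy⟩ := exists_fixed_of_not_mem this
    exact Finset.card_pos.2 ⟨y, by simp [hy]⟩
  have hsum : ∑ d, f d = Fintype.card ↥(D G Y) := by
    have h1 : ∀ y : Y, ((Finset.univ.filter fun d : ↥(D G Y) => (g * d) • y = y).card) * Fintype.card Y
        = Fintype.card ↥(D G Y) := by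
      intro y
      obtain ⟨d₀, hd₀⟩ := exists_smul_eq (D G Y) y (g⁻¹ • y)
      have e : (Finset.univ.filter fun d : ↥(D G Y) => (g * d) • y = y).card
          = Fintype.card (stabilizer (D G Y) y) := by
        rw [← Fintype.card_coe]
        refine Fintype.card_congr ((Equiv.mulLeft d₀⁻¹).subtypeEquiv fun d => ?_)
        simp only [Finset.mem_filter, Finset.mem_univ, true_and, Equiv.coe_mulLeft, mem_stabilizer_iff,
          mul_smul, inv_smul_eq_iff, hd₀]
        change g • (d • y) = y ↔ d • y = g⁻¹ • y
        rw [eq_inv_smul_iff]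
      have ho : Fintype.card (orbit (D G Y) y) = Fintype.card Y :=
        Fintype.card_congr ((Equiv.setCongr (orbit_eq_univ (D G Y) y)).trans (Equiv.Set.univ Y))
      rw [e, mul_comm, ← ho, card_orbit_mul_card_stabilizer_eq_card_group]
    have hne : Nonempty Y := (exists_fixed_of_not_mem hg).nonempty
    have hc : ∑ d, f d = ∑ y : Y, (Finset.univ.filter fun d : ↥(D G Y) => (g * d) • y = y).card := by
      simp only [f, Finset.card_filter]; exact Finset.sum_comm
    refine Nat.eq_of_mul_eq_mul_right (Fintype.card_pos (α := Y)) ?_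
    rw [hc, Finset.sum_mul, Finset.sum_congr rfl fun y _ => h1 y]
    simp [mul_comm]
  have hall : ∀ d, f d = 1 := by
    intro d
    by_contra hd
    have hlt : ∑ _d : ↥(D G Y), 1 < ∑ d, f d :=
      Finset.sum_lt_sum (fun d _ => hpos d) ⟨d, Finset.mem_univ _, by have := hpos d; omega⟩
    simp [hsum] at hlt
  have h := hall 1
  simp only [f, Subgroup.coe_one, mul_one] at h
  rw [Nat.card_eq_fintype_card, ← h, ← Fintype.card_coe]
  exact Fintype.card_congr (Equiv.subtypeEquivRight fun y => by simp)

theorem mem_D_of_fixes_two [Finite G] [Finite Y] [IsPretransitive G Y] {g : G} {a b : Y}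
    (hab : a ≠ b) (ha : g • a = a) (hb : g • b = b) : g ∈ D G Y := by
  by_contra hg
  have h := card_fixedBy_eq_one hg
  have : Subsingleton (fixedBy Y g) := (Nat.card_eq_one_iff_unique.1 h).1
  exact hab (congrArg Subtype.val (Subsingleton.elim (⟨a, ha⟩ : fixedBy Y g) ⟨b, hb⟩))

theorem card_stabilizer_eq [Finite G] [Finite Y] [IsPretransitive G Y] (a : Y) :
    Nat.card (stabilizer G a) = (D G Y).index * Nat.card (stabilizer (D G Y) a) := by
  have := D_pretransitive G Y
  have : Nonempty Y := ⟨a⟩
  have h1 := Subgroup.index_mul_card (stabilizer G a)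
  have h2 := Subgroup.index_mul_card (stabilizer (D G Y) a)
  rw [index_stabilizer_of_transitive] at h1 h2
  have h3 := Subgroup.index_mul_card (D G Y)
  refine Nat.eq_of_mul_eq_mul_left (Nat.card_pos (α := Y)) ?_
  rw [h1, ← h3, ← h2]; ring

/-- for `b ≠ a`, the index of `D` divides the `G_a`-orbit of `b`; more precisely. -/
theorem index_dvd_orbit [Finite G] [Finite Y] [IsPretransitive G Y] {a b : Y} (hab : b ≠ a) :
    (D G Y).index ∣ Nat.card (orbit (stabilizer G a) b) ∧
      (Nat.card (orbit (stabilizer G a) b) ≤ (D G Y).index →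
        ∀ d : G, d ∈ D G Y → d • a = a → d • b = b) := by
  let H := stabilizer G a
  let f : stabilizer H b →* stabilizer (D G Y) a :=
    { toFun := fun h => ⟨⟨(h : H), mem_D_of_fixes_two hab.symm (h : H).2 (show ((h : H) : G) • b = b from h.2)⟩, (h : H).2⟩
      map_one' := rfl
      map_mul' := fun _ _ => rfl }
  have hf : Function.Injective f := by
    intro x y h
    have := congrArg (fun z : stabilizer (D G Y) a => ((z : D G Y) : G)) h
    exact Subtype.ext (Subtype.ext this)
  obtain ⟨k, hk⟩ := Subgroup.card_dvd_of_injective f hf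
  have h1 := Subgroup.index_mul_card (stabilizer H b)
  rw [index_stabilizer, card_stabilizer_eq a, hk] at h1
  have hpos : 0 < Nat.card (stabilizer H b) := Nat.card_pos
  have hval : Nat.card (orbit H b) = (D G Y).index * k := by
    refine Nat.eq_of_mul_eq_mul_right hpos ?_
    rw [Nat.card_coe_set_eq, h1]; ring
  refine ⟨⟨k, hval⟩, fun hle d hd hda => ?_⟩
  have hk1 : k = 1 := by
    have hd0 : (D G Y).index ≠ 0 := Subgroup.index_ne_zero_of_finite
    have hk0 : k ≠ 0 := by
      rintro rfl
      have : 0 < Nat.card (stabilizer (D G Y) a) := Nat.card_pos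
      rw [mul_zero] at hk; omega
    rw [hval] at hle
    have : (D G Y).index * k ≤ (D G Y).index * 1 := by simpa using hle
    have := Nat.le_of_mul_le_mul_left this (Nat.pos_of_ne_zero hd0)
    omega
  have hbij : Function.Bijective f :=
    (Nat.bijective_iff_injective_and_card f).2 ⟨hf, by rw [hk, hk1, mul_one]⟩
  obtain ⟨h, hh⟩ := hbij.2 ⟨⟨d, hd⟩, hda⟩
  have h2 : ((h : H) : G) = d := congrArg (fun z : stabilizer (D G Y) a => ((z : D G Y) : G)) hh
  rw [← h2]; exact h.2

/-- If every orbit of `H` on an invariant set has size divisible by `d`, then so does the set. -/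
theorem dvd_ncard_of_orbits {H X : Type*} [Group H] [MulAction H X] [Finite X] (S : Set X)
    (hS : ∀ (h : H), ∀ x ∈ S, h • x ∈ S) (d : ℕ) (hd : ∀ x ∈ S, d ∣ Nat.card (orbit H x)) :
    d ∣ S.ncard := by
  let P : SubMulAction H X := ⟨S, fun h _ hx => hS h _ hx⟩
  have : Finite P := Subtype.finite
  have := Fintype.ofFinite (orbitRel.Quotient H P)
  rw [← Nat.card_coe_set_eq]
  change d ∣ Nat.card P
  rw [Nat.card_congr (selfEquivSigmaOrbits H P), Nat.card_sigma]
  refine Finset.dvd_sum fun q _ => ?_
  refine dvd_trans (hd _ q.out.2) (dvd_of_eq ?_)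
  rw [← SubMulAction.val_image_orbit q.out]
  exact Nat.card_image_of_injective Subtype.val_injective _

theorem index_dvd_card_sub_one [Finite G] [Finite Y] [IsPretransitive G Y] (a : Y) :
    (D G Y).index ∣ Nat.card Y - 1 := by
  have h := dvd_ncard_of_orbits (H := stabilizer G a) ({a}ᶜ : Set Y)
    (fun h x hx he => hx (by
      have h2 : h⁻¹ • a = a := (h⁻¹).2
      change x = a
      rw [← h2, eq_inv_smul_iff]; exact he))
    (D G Y).index (fun x hx => (index_dvd_orbit hx).1)
  rwa [Set.ncard_compl, Set.ncard_singleton] at h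

end Cfsg.Agent.Lib.RecogThree.Derangements
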