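import Cfsg.Agent.Lib.Linear.SL2

/-! Element orders of `PSL₂(q)`. -/

namespace Cfsg.Agent.Lib.RecogThree.PSL2Orders

open Matrix

set_option linter.unusedSectionVars false

variable {F : Type*} [Field F] [Fintype F]

local notation "SL2" => Matrix.SpecialLinearGroup (Fin 2) F
local notation "M2" => Matrix (Fin 2) (Fin 2) F
local notation "PSL2" => Matrix.ProjectiveSpecialLinearGroup (Fin 2) F

/-- the quotient map -/
noncomputable def toP : Matrix.SpecialLinearGroup (Fin 2) F →*
    Matrix.ProjectiveSpecialLinearGroup (Fin 2) F :=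
  QuotientGroup.mk' _

theorem toP_eq_one_iff (x : SL2) : toP x = 1 ↔ x ∈ Subgroup.center SL2 :=
  QuotientGroup.eq_one_iff x

theorem toP_surjective : Function.Surjective (toP : SL2 → PSL2) :=
  QuotientGroup.mk'_surjective _

/-- gcd(2, q - 1) -/
def dd (q : ℕ) : ℕ := if 2 ∣ q then 1 else 2

theorem toP_of_sq (x : SL2) (h : x * x = 1) (h2 : (2 : F) ≠ 0) : toP x = 1 := by
  rw [toP_eq_one_iff]
  by_cases h1 : x = 1
  · rw [h1]; exact Subgroup.one_mem _
  · have hx := Cfsg.Agent.Lib.Linear.eq_neg_one_of_mul_self h2 h1 h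
    rw [Subgroup.mem_center_iff]
    intro g
    apply Subtype.ext
    rw [Matrix.SpecialLinearGroup.coe_mul, Matrix.SpecialLinearGroup.coe_mul, hx]
    simp

theorem two_eq_zero_iff : (2 : F) = 0 ↔ 2 ∣ Fintype.card F := by
  constructor
  · intro h
    have : ringChar F = 2 := by
      have h2 : ringChar F ∣ 2 := ringChar.dvd (by exact_mod_cast h)
      exact ((Nat.prime_dvd_prime_iff_eq (CharP.char_is_prime F (ringChar F)) Nat.prime_two).1 h2)
    exact Nat.dvd_of_mod_eq_zero (FiniteField.even_card_iff_char_two.1 this)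
  · intro h
    have h2 : ringChar F = 2 := FiniteField.even_card_iff_char_two.2 (Nat.mod_eq_zero_of_dvd h)
    have := ringChar.charP F
    have h3 : ((2 : ℕ) : F) = 0 := (CharP.cast_eq_zero_iff F (ringChar F) 2).2 (h2 ▸ dvd_rfl)
    exact_mod_cast h3

/-- every element order of PSL₂(q) divides p, (q-1)/d or (q+1)/d -/
theorem orderOf_cases (p : ℕ) [Fact p.Prime] [CharP F p] (y : PSL2) :
    orderOf y ∣ p ∨ orderOf y ∣ (Fintype.card F - 1) / dd (Fintype.card F) ∨
      orderOf y ∣ (Fintype.card F + 1) / dd (Fintype.card F) := by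
  obtain ⟨x, rfl⟩ := toP_surjective y
  have hmap : orderOf (toP x) ∣ orderOf x := orderOf_map_dvd _ x
  by_cases h2 : (2 : F) = 0
  · have hd : dd (Fintype.card F) = 1 := if_pos (two_eq_zero_iff.1 h2)
    simp only [hd, Nat.div_one]
    rcases Cfsg.Agent.Lib.Linear.orderOf_dvd_cases p x with h | h | h
    · exact Or.inr (Or.inl (hmap.trans h))
    · exact Or.inr (Or.inr (hmap.trans h))
    · refine Or.inl (hmap.trans ?_)
      have hp2 : p = 2 := by
        have : p ∣ 2 := (CharP.cast_eq_zero_iff F p 2).1 (by exact_mod_cast h2)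
        exact (Nat.prime_dvd_prime_iff_eq Fact.out Nat.prime_two).1 this
      subst hp2
      apply orderOf_dvd_of_pow_eq_one
      set t := Matrix.trace (x : M2)
      have hX := Cfsg.Agent.Lib.Linear.sl2_mul_self x
      have hneg : (-1 : F) = 1 := CharTwo.neg_eq 1
      have hX' : (x : M2) * x = t • (x : M2) + 1 := by rw [hX, CharTwo.sub_eq_add]
      have h4 : (x : M2) * x * ((x : M2) * x) = 1 := by
        have := congrArg (fun z : SL2 => (z : M2)) (orderOf_dvd_iff_pow_eq_one.1 h)
        simpa [pow_succ, mul_assoc] using this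
      have ht : (t * t) • ((x : M2) * x) = 0 := by
        have h5 : (x : M2) * x * ((x : M2) * x) = (t * t) • ((x : M2) * x) + 1 := by
          conv_lhs => rw [hX']
          simp only [add_mul, mul_add, smul_mul_assoc, mul_smul_comm, one_mul, mul_one, smul_add, smul_smul]
          rw [show (t * t) • ((x : M2) * x) + t • (x : M2) + (t • (x : M2) + 1) =
            (t * t) • ((x : M2) * x) + 1 + (t • (x : M2) + t • (x : M2)) by abel,
            CharTwo.add_self_eq_zero, add_zero]
        rw [h5] at h4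
        simpa using h4
      rcases smul_eq_zero.1 ht with h0 | h0
      · have t0 : t = 0 := mul_self_eq_zero.1 h0
        apply Subtype.ext
        rw [sq, Matrix.SpecialLinearGroup.coe_mul, hX', t0, zero_smul, zero_add]
        rfl
      · rw [h0, zero_mul] at h4
        exact absurd (congrFun (congrFun h4 0) 0) (by simp)
  · have hd : dd (Fintype.card F) = 2 := if_neg (fun h => h2 (two_eq_zero_iff.2 h))
    rw [hd]
    have key : ∀ m, orderOf x ∣ 2 * m → orderOf (toP x) ∣ m := by
      intro m hm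
      apply orderOf_dvd_of_pow_eq_one
      rw [← map_pow]
      refine toP_of_sq _ ?_ h2
      rw [← pow_add, ← two_mul, ← orderOf_dvd_iff_pow_eq_one]
      exact hm
    have hodd : ¬ 2 ∣ Fintype.card F := fun h => h2 (two_eq_zero_iff.2 h)
    rcases Cfsg.Agent.Lib.Linear.orderOf_dvd_cases p x with h | h | h
    · exact Or.inr (Or.inl (key _ (by rwa [Nat.mul_div_cancel' (by omega)])))
    · exact Or.inr (Or.inr (key _ (by rwa [Nat.mul_div_cancel' (by omega)])))
    · exact Or.inl (key _ h)

theorem center_sq {x : SL2} (hx : x ∈ Subgroup.center SL2) : x ^ 2 = 1 := by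
  obtain ⟨r, hr, hx'⟩ := Matrix.SpecialLinearGroup.mem_center_iff.1 hx
  rw [Fintype.card_fin] at hr
  apply Subtype.ext
  rw [sq, Matrix.SpecialLinearGroup.coe_mul, ← hx', ← map_mul, ← sq, hr, map_one,
    Matrix.SpecialLinearGroup.coe_one]

theorem center_eq_one (h2 : (2 : F) = 0) {x : SL2} (hx : x ∈ Subgroup.center SL2) : x = 1 := by
  obtain ⟨r, hr, hx'⟩ := Matrix.SpecialLinearGroup.mem_center_iff.1 hx
  rw [Fintype.card_fin] at hr
  have : (r - 1) ^ 2 = 0 := by linear_combination hr - (r - 1) * h2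
  apply Subtype.ext
  rw [← hx', sub_eq_zero.1 (sq_eq_zero_iff.1 this), map_one, Matrix.SpecialLinearGroup.coe_one]

/-- an element of order (q-1)/d, and one of order (q+1)/d -/
theorem exists_orders (p : ℕ) [Fact p.Prime] [CharP F p] :
    (∃ y : PSL2, orderOf y = (Fintype.card F - 1) / dd (Fintype.card F)) ∧
    (∃ y : PSL2, orderOf y = (Fintype.card F + 1) / dd (Fintype.card F)) ∧
    ∃ y : PSL2, orderOf y = p := by
  have key : ∀ x : SL2, orderOf (toP x) = orderOf x / dd (Fintype.card F) ∨
      (dd (Fintype.card F) = 2 ∧ orderOf (toP x) = orderOf x) := by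
    intro x
    have hk : x ^ orderOf (toP x) ∈ Subgroup.center SL2 := by
      rw [← toP_eq_one_iff, map_pow, pow_orderOf_eq_one]
    have hmap : orderOf (toP x) ∣ orderOf x := orderOf_map_dvd _ x
    by_cases h2 : (2 : F) = 0
    · left
      rw [show dd (Fintype.card F) = 1 from if_pos (two_eq_zero_iff.1 h2), Nat.div_one]
      exact Nat.dvd_antisymm hmap (orderOf_dvd_of_pow_eq_one (center_eq_one h2 hk))
    · have hd : dd (Fintype.card F) = 2 := if_neg (fun h => h2 (two_eq_zero_iff.2 h))
      rw [hd]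
      obtain ⟨c, hc⟩ := hmap
      have h3 : orderOf x ∣ orderOf (toP x) * 2 :=
        orderOf_dvd_of_pow_eq_one (by rw [pow_mul]; exact center_sq hk)
      rw [hc] at h3 ⊢
      have hpos : 0 < orderOf (toP x) := orderOf_pos _
      have hc2 : c ∣ 2 := Nat.dvd_of_mul_dvd_mul_left hpos h3
      rcases (Nat.dvd_prime Nat.prime_two).1 hc2 with rfl | rfl
      · right; simp
      · left; simp
  refine ⟨?_, ?_, ?_⟩
  · obtain ⟨x, hx⟩ := Cfsg.Agent.Lib.Linear.exists_orderOf_eq_card_sub_one (F := F)
    rcases key x with h | ⟨hd, h⟩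
    · exact ⟨toP x, by rw [h, hx]⟩
    · refine ⟨toP x ^ 2, ?_⟩
      have hodd : ¬ 2 ∣ Fintype.card F := by
        intro h'; simp [dd, h'] at hd
      have := Fintype.one_lt_card (α := F)
      rw [hd, orderOf_pow, h, hx, Nat.gcd_eq_right (by omega)]
  · obtain ⟨x, hx⟩ := Cfsg.Agent.Lib.Linear.exists_orderOf_eq_card_add_one (F := F)
    rcases key x with h | ⟨hd, h⟩
    · exact ⟨toP x, by rw [h, hx]⟩
    · refine ⟨toP x ^ 2, ?_⟩
      have hodd : ¬ 2 ∣ Fintype.card F := by
        intro h'; simp [dd, h'] at hd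
      rw [hd, orderOf_pow, h, hx, Nat.gcd_eq_right (by omega)]
  · let u : SL2 := ⟨!![1, 1; 0, 1], by simp [Matrix.det_fin_two]⟩
    refine ⟨toP u, orderOf_eq_prime ?_ ?_⟩
    · rw [← map_pow, show u ^ p = 1 from ?_, map_one]
      apply Subtype.ext
      rw [Matrix.SpecialLinearGroup.coe_pow]
      have hu : ∀ k : ℕ, (!![1, 1; 0, 1] : M2) ^ k = !![1, (k : F); 0, 1] := by
        intro k
        induction k with
        | zero => ext i j; fin_cases i <;> fin_cases j <;> simp
        | succ k ih =>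
          rw [pow_succ, ih]
          ext i j; fin_cases i <;> fin_cases j <;> simp [add_comm]
      change (!![1, 1; 0, 1] : M2) ^ p = 1
      rw [hu]
      ext i j; fin_cases i <;> fin_cases j <;> simp
    · rw [Ne, toP_eq_one_iff]
      intro hc
      obtain ⟨r, -, hr⟩ := Matrix.SpecialLinearGroup.mem_center_iff.1 hc
      have := congrFun (congrFun hr 0) 1
      simp [u] at this

/-- The spectrum of `PSL₂(q)`. -/
theorem range_orderOf (p : ℕ) [Fact p.Prime] [CharP F p] :
    Set.range (orderOf : PSL2 → ℕ) = {m | m ∣ p ∨ m ∣ (Fintype.card F - 1) / dd (Fintype.card F) ∨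
      m ∣ (Fintype.card F + 1) / dd (Fintype.card F)} := by
  ext m
  constructor
  · rintro ⟨y, rfl⟩; exact orderOf_cases p y
  · obtain ⟨⟨a, ha⟩, ⟨b, hb⟩, ⟨c, hc⟩⟩ := exists_orders (F := F) p
    have hdiv : ∀ (y : PSL2) (m : ℕ), m ∣ orderOf y → m ∈ Set.range (orderOf : PSL2 → ℕ) := by
      intro y m ⟨k, hk⟩
      have hpos : 0 < orderOf y := orderOf_pos _
      have hk0 : 0 < k := Nat.pos_of_ne_zero fun h => by rw [h, mul_zero] at hk; omega
      exact ⟨y ^ k, by rw [orderOf_pow, hk, Nat.gcd_eq_right (Dvd.intro_left m rfl),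
        Nat.mul_div_cancel _ hk0]⟩
    rintro (h | h | h)
    · exact hdiv c m (hc ▸ h)
    · exact hdiv a m (ha ▸ h)
    · exact hdiv b m (hb ▸ h)

end Cfsg.Agent.Lib.RecogThree.PSL2Orders
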