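import Mathlib

/-! A nonabelian minimal normal subgroup `N` has a minimal `N`-invariant subgroup `M`; its conjugates
commute with it or equal it, and `N = M × C` where `C` is generated by the other conjugates. -/

namespace Cfsg.Agent.Lib.RecogThree.MinNormalFactors

variable {G : Type*} [Group G]

/-- the conjugate `g M g⁻¹` -/
def cj (M : Subgroup G) (g : G) : Subgroup G := M.map (MulAut.conj g).toMonoidHom

/-- generated by the conjugates different from `M` -/
def others (M : Subgroup G) : Subgroup G :=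
  Subgroup.closure {z | ∃ g, cj M g ≠ M ∧ z ∈ cj M g}

theorem mem_cj {M : Subgroup G} {g z : G} : z ∈ cj M g ↔ g⁻¹ * z * g ∈ M := by
  constructor
  · rintro ⟨x, hx, rfl⟩
    simpa [mul_assoc] using hx
  · intro h
    exact ⟨_, h, by simp [mul_assoc]⟩

/-- the factor data -/
structure Factor (N M : Subgroup G) : Prop where
  le : M ≤ N
  ne_bot : M ≠ ⊥
  normalized : ∀ n ∈ N, ∀ x ∈ M, n * x * n⁻¹ ∈ M
  minimal : ∀ Y : Subgroup G, Y ≤ M → (∀ m ∈ M, ∀ x ∈ Y, m * x * m⁻¹ ∈ Y) → Y = ⊥ ∨ Y = M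
  commute : ∀ g, cj M g ≠ M → ∀ x ∈ M, ∀ y ∈ cj M g, x * y = y * x
  others_le : others M ≤ N
  commute_others : ∀ x ∈ M, ∀ c ∈ others M, x * c = c * x
  decomp : ∀ n ∈ N, ∃ m ∈ M, ∃ c ∈ others M, n = m * c
  inter : ∀ x ∈ M, x ∈ others M → x = 1
  centreless : ∀ x ∈ M, (∀ y ∈ M, x * y = y * x) → x = 1

theorem exists_factor [Finite G] {N : Subgroup G} (hN : N.Normal) (hN1 : N ≠ ⊥)
    (hmin : ∀ X : Subgroup G, X.Normal → X ≤ N → X = ⊥ ∨ X = N)
    (hcent : N ⊓ Subgroup.centralizer (N : Set G) = ⊥) : ∃ M : Subgroup G, Factor N M := by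
  classical
  have hfin : ({X : Subgroup G | X ≤ N ∧ X ≠ ⊥ ∧ ∀ n ∈ N, ∀ x ∈ X, n * x * n⁻¹ ∈ X}).Finite :=
    Set.toFinite _
  obtain ⟨M, hMS, hMmin'⟩ := hfin.exists_minimal
    ⟨N, le_rfl, hN1, fun n hn x hx => N.mul_mem (N.mul_mem hn hx) (N.inv_mem hn)⟩
  obtain ⟨hMle, hM1, hMn⟩ := hMS
  have hMmin : ∀ Y : Subgroup G, Y ≤ M → (∀ n ∈ N, ∀ x ∈ Y, n * x * n⁻¹ ∈ Y) → Y = ⊥ ∨ Y = M :=
    fun Y hY hYn => or_iff_not_imp_left.2 fun h =>
      le_antisymm hY (hMmin' ⟨hY.trans hMle, h, hYn⟩ hY)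
  have hcjN : ∀ g, cj M g ≤ N := by
    intro g z hz
    have := hN.conj_mem _ (hMle (mem_cj.1 hz)) g
    simpa [mul_assoc] using this
  have hcjn : ∀ g, ∀ n ∈ N, ∀ z ∈ cj M g, n * z * n⁻¹ ∈ cj M g := by
    intro g n hn z hz
    rw [mem_cj] at hz ⊢
    have h := hMn (g⁻¹ * n * g) (by simpa using hN.conj_mem n hn g⁻¹) _ hz
    simpa [mul_assoc] using h
  have hdis : ∀ g, cj M g ≠ M → ∀ x ∈ M, ∀ y ∈ cj M g, x * y = y * x := by
    intro g hg
    have hinter : M ⊓ cj M g = ⊥ := by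
      refine (hMmin _ inf_le_left fun n hn x hx => ⟨hMn n hn x hx.1, hcjn g n hn x hx.2⟩).resolve_right
        fun h => hg ?_
      have hle : M ≤ cj M g := inf_eq_left.1 h
      refine (Subgroup.eq_of_le_of_card_ge hle (le_of_eq ?_)).symm
      exact (Nat.card_congr (M.equivMapOfInjective _ (MulAut.conj g).injective).toEquiv).symm
    intro x hx y hy
    have h1 : x * y * x⁻¹ * y⁻¹ ∈ M ⊓ cj M g := by
      refine ⟨?_, (cj M g).mul_mem (hcjn g x (hMle hx) y hy) ((cj M g).inv_mem hy)⟩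
      have := hMn y (hcjN g hy) x⁻¹ (M.inv_mem hx)
      have := M.mul_mem hx this
      simpa [mul_assoc] using this
    rw [hinter, Subgroup.mem_bot] at h1
    calc x * y = (x * y * x⁻¹ * y⁻¹) * (y * x) := by group
      _ = y * x := by rw [h1, one_mul]
  have hCN : others M ≤ N := (Subgroup.closure_le _).2 fun z ⟨g, _, hz⟩ => hcjN g hz
  have hcomm : ∀ x ∈ M, ∀ c ∈ others M, x * c = c * x := by
    intro x hx c hc
    have hle : others M ≤ Subgroup.centralizer {x} := (Subgroup.closure_le _).2 fun z ⟨g, hg, hz⟩ =>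
      Subgroup.mem_centralizer_singleton_iff.2 (hdis g hg x hx z hz).symm
    exact (Subgroup.mem_centralizer_singleton_iff.1 (hle hc)).symm
  have hdec : ∀ n ∈ N, ∃ m ∈ M, ∃ c ∈ others M, n = m * c := by
    have hle : Subgroup.normalClosure (M : Set G) ≤ M ⊔ others M := by
      refine (Subgroup.closure_le _).2 fun z hz => ?_
      obtain ⟨x, hx, hxz⟩ := Group.mem_conjugatesOfSet_iff.1 hz
      obtain ⟨g, rfl⟩ := isConj_iff.1 hxz
      by_cases hg : cj M g = M
      · exact Subgroup.mem_sup_left (hg ▸ mem_cj.2 (by simpa [mul_assoc] using hx))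
      · exact Subgroup.mem_sup_right
          (Subgroup.subset_closure ⟨g, hg, mem_cj.2 (by simpa [mul_assoc] using hx)⟩)
    have hNle : N ≤ M ⊔ others M := by
      refine le_trans (le_of_eq ?_) hle
      refine ((hmin _ Subgroup.normalClosure_normal
        (Subgroup.normalClosure_le_normal hMle)).resolve_left fun h => hM1 ?_).symm
      exact le_bot_iff.1 (h ▸ Subgroup.le_normalClosure)
    intro n hn
    have hn' : n ∈ Subgroup.closure ((M : Set G) ∪ others M) := by
      rw [Subgroup.closure_union, Subgroup.closure_eq, Subgroup.closure_eq]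
      exact hNle hn
    clear hn
    induction hn' using Subgroup.closure_induction with
    | mem x hx =>
      rcases hx with hx | hx
      · exact ⟨x, hx, 1, (others M).one_mem, (mul_one x).symm⟩
      · exact ⟨1, M.one_mem, x, hx, (one_mul x).symm⟩
    | one => exact ⟨1, M.one_mem, 1, (others M).one_mem, (one_mul 1).symm⟩
    | mul x y _ _ hx hy =>
      obtain ⟨m, hm, c, hc, rfl⟩ := hx
      obtain ⟨m', hm', c', hc', rfl⟩ := hy
      refine ⟨m * m', M.mul_mem hm hm', c * c', (others M).mul_mem hc hc', ?_⟩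
      rw [mul_assoc m c, ← mul_assoc c m', ← hcomm m' hm' c hc]
      group
    | inv x _ hx =>
      obtain ⟨m, hm, c, hc, rfl⟩ := hx
      refine ⟨m⁻¹, M.inv_mem hm, c⁻¹, (others M).inv_mem hc, ?_⟩
      rw [hcomm m hm c hc, mul_inv_rev]
  have hcentral : ∀ x ∈ M, (∀ y ∈ M, x * y = y * x) → x = 1 := by
    intro x hx hxy
    have : x ∈ N ⊓ Subgroup.centralizer (N : Set G) := by
      refine ⟨hMle hx, Subgroup.mem_centralizer_iff.2 ?_⟩
      intro n hn
      obtain ⟨m, hm, c, hc, rfl⟩ := hdec n hn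
      rw [mul_assoc, ← hcomm x hx c hc, ← mul_assoc, ← hxy m hm, mul_assoc]
    rwa [hcent, Subgroup.mem_bot] at this
  refine ⟨M, ⟨hMle, hM1, hMn, fun Y hY hYm => hMmin Y hY fun n hn x hx => ?_, hdis, hCN, hcomm, hdec,
    fun x hx hxC => hcentral x hx fun y hy => (hcomm y hy x hxC).symm, hcentral⟩⟩
  obtain ⟨m, hm, c, hc, rfl⟩ := hdec n hn
  rw [show m * c * x * (m * c)⁻¹ = m * (c * x) * c⁻¹ * m⁻¹ by group, ← hcomm x (hY hx) c hc]
  simpa [mul_assoc] using hYm m hm x hx

variable {N M : Subgroup G}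

theorem Factor.uniq (h : Factor N M) {m c m' c' : G} (hm : m ∈ M) (hc : c ∈ others M)
    (hm' : m' ∈ M) (hc' : c' ∈ others M) (he : m * c = m' * c') : m = m' := by
  have h1 : m'⁻¹ * m = c' * c⁻¹ := by
    rw [eq_mul_inv_iff_mul_eq, mul_assoc, he, inv_mul_cancel_left]
  exact (inv_mul_eq_one.1 (h.inter _ (M.mul_mem (M.inv_mem hm') hm)
    (h1 ▸ (others M).mul_mem hc' ((others M).inv_mem hc)))).symm

theorem Factor.conj_eq (h : Factor N M) {m c y : G} (hc : c ∈ others M) (hy : y ∈ M) :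
    (m * c) * y * (m * c)⁻¹ = m * y * m⁻¹ := by
  rw [show m * c * y * (m * c)⁻¹ = m * (c * y) * c⁻¹ * m⁻¹ by group, ← h.commute_others y hy c hc]
  group

theorem conj_others_le {g : G} (hg : cj M g = M) {c : G} (hc : c ∈ others M) :
    g * c * g⁻¹ ∈ others M := by
  have hle : others M ≤ (others M).comap (MulAut.conj g).toMonoidHom := by
    refine (Subgroup.closure_le _).2 fun z ⟨g', hg', hz⟩ => ?_
    refine Subgroup.subset_closure ⟨g * g', fun he => hg' ?_, ?_⟩
    · ext w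
      have h1 : g⁻¹ * (g * w * g⁻¹) * g = w := by group
      constructor
      · intro hw
        have h2 : g * w * g⁻¹ ∈ cj M (g * g') := by
          rw [mem_cj] at hw ⊢; simpa [mul_assoc] using hw
        rw [he, ← hg, mem_cj, h1] at h2
        exact h2
      · intro hw
        have h2 : g * w * g⁻¹ ∈ cj M g := mem_cj.2 (by rwa [h1])
        rw [hg, ← he, mem_cj] at h2
        exact mem_cj.2 (by simpa [mul_assoc] using h2)
    · rw [mem_cj] at hz ⊢
      simpa [mul_assoc] using hz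
  exact hle hc

theorem cj_eq_of_mem [Finite G] {g : G} (h : ∀ x ∈ M, g * x * g⁻¹ ∈ M) : cj M g = M := by
  refine Subgroup.eq_of_le_of_card_ge ?_ ?_
  · rintro _ ⟨x, hx, rfl⟩
    exact h x hx
  · exact le_of_eq (Nat.card_congr (M.equivMapOfInjective _ (MulAut.conj g).injective).toEquiv)

end Cfsg.Agent.Lib.RecogThree.MinNormalFactors
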