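import Mathlib

/-! Schur's method: a primitive group containing a regular cyclic subgroup of order not a prime power
is doubly transitive. Abstract form on a commutative group `C` with the set `Φ` of permutations of `C`
induced by a point stabiliser. -/

namespace Cfsg.Agent.Lib.RecogThree.SchurRegular

variable {C : Type*} [CommGroup C]

/-- properties of the permutations induced by a point stabiliser on a regular subgroup -/
structure IsStab (Φ : Set (Equiv.Perm C)) : Prop where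
  one : ∀ σ ∈ Φ, σ 1 = 1
  shift : ∀ σ ∈ Φ, ∀ s : C, ∃ τ ∈ Φ, ∀ u : C, σ (s * u) = σ s * τ u
  inv : ∀ σ ∈ Φ, σ.symm ∈ Φ
  id : Equiv.refl C ∈ Φ
  comp : ∀ σ ∈ Φ, ∀ τ ∈ Φ, σ.trans τ ∈ Φ
  prim : ∀ K : Subgroup C, (∀ σ ∈ Φ, ∀ c ∈ K, σ c ∈ K) → K = ⊥ ∨ K = ⊤

variable {Φ : Set (Equiv.Perm C)}

theorem IsStab.closure (h : IsStab Φ) [Finite C] {W : Set C} (hW : ∀ σ ∈ Φ, ∀ c ∈ W, σ c ∈ W) :
    ∀ σ ∈ Φ, ∀ c ∈ Subgroup.closure W, σ c ∈ Subgroup.closure W := by
  intro σ hσ c hc
  have hc' : c ∈ Submonoid.closure W := by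
    have := Subgroup.closure_toSubmonoid_of_finite (s := W)
    rw [← this]; exact hc
  clear hc
  induction hc' using Submonoid.closure_induction generalizing σ with
  | mem x hx => exact Subgroup.subset_closure (hW σ hσ x hx)
  | one => rw [h.one σ hσ]; exact Subgroup.one_mem _
  | mul x y _ _ hx hy =>
    obtain ⟨τ, hτ, hxy⟩ := h.shift σ hσ x
    rw [hxy]
    exact Subgroup.mul_mem _ (hx σ hσ) (hy τ hτ)

theorem invariant_mul (h : IsStab Φ) [Fintype C] {R : Type*} [CommRing R] (x y : MonoidAlgebra R C)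
    (hx : ∀ σ ∈ Φ, ∀ c, x.coeff (σ c) = x.coeff c) (hy : ∀ σ ∈ Φ, ∀ c, y.coeff (σ c) = y.coeff c) :
    ∀ σ ∈ Φ, ∀ c, (x * y).coeff (σ c) = (x * y).coeff c := by
  classical
  intro σ hσ c
  have e : ∀ g, (x * y).coeff g = ∑ s : C, x.coeff s * y.coeff (s⁻¹ * g) := by
    intro g
    rw [MonoidAlgebra.coeff_mul_apply_left, Finsupp.sum_fintype]
    simp
  rw [e, e, ← Equiv.sum_comp σ]
  refine Finset.sum_congr rfl fun s _ => ?_
  obtain ⟨τ, hτ, hs⟩ := h.shift σ hσ s
  have := hs (s⁻¹ * c)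
  rw [mul_inv_cancel_left] at this
  rw [hx σ hσ, this, inv_mul_cancel_left, hy τ hτ]

theorem coset_mem (h : IsStab Φ) [Fintype C] [IsCyclic C] {p : ℕ} [Fact p.Prime]
    (hp : p ∣ Nat.card C) {T : Set C} (hT : ∀ σ ∈ Φ, ∀ c ∈ T, σ c ∈ T) {t : C} (ht : t ∈ T)
    (htp : t ^ p ≠ 1) {e : C} (he : e ^ p = 1) : t * e ∈ T := by
  classical
  have hT' : ∀ σ ∈ Φ, ∀ c, σ c ∈ T ↔ c ∈ T := fun σ hσ c =>
    ⟨fun hc => by simpa using hT _ (h.inv σ hσ) _ hc, hT σ hσ c⟩
  let f : MonoidAlgebra (ZMod p) C := ∑ u ∈ Finset.univ.filter (fun u => u ∈ T), MonoidAlgebra.single u 1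
  have hf : ∀ σ ∈ Φ, ∀ c, f.coeff (σ c) = f.coeff c := by
    intro σ hσ c
    simp [f, Finsupp.single_apply, hT' σ hσ c]
  have hfp : ∀ n : ℕ, ∀ σ ∈ Φ, ∀ c, (f ^ (n + 1)).coeff (σ c) = (f ^ (n + 1)).coeff c := by
    intro n
    induction n with
    | zero => simpa using hf
    | succ n ih => rw [pow_succ]; exact invariant_mul h _ _ ih hf
  have : CharP (MonoidAlgebra (ZMod p) C) p :=
    charP_of_injective_algebraMap (algebraMap (ZMod p) (MonoidAlgebra (ZMod p) C)).injective p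
  have hcount : ∀ v, (f ^ p).coeff v =
      ((Finset.univ.filter fun u => u ∈ T ∧ u ^ p = v).card : ZMod p) := by
    intro v
    have e1 : f ^ p = ∑ u ∈ Finset.univ.filter (fun u => u ∈ T), MonoidAlgebra.single (u ^ p) (1 : ZMod p) := by
      rw [sum_pow_char]
      simp
    rw [e1]
    simp [Finsupp.single_apply, Finset.sum_boole, Finset.filter_filter]
  let W : Set C := {v | (f ^ p).coeff v ≠ 0}
  have hW : ∀ σ ∈ Φ, ∀ c ∈ W, σ c ∈ W := by
    intro σ hσ c hc
    have := hfp (p - 1) σ hσ c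
    rw [Nat.sub_add_cancel (Fact.out : p.Prime).one_le] at this
    simpa [W, this] using hc
  have hWle : Subgroup.closure W ≤ (powMonoidHom p : C →* C).range := by
    refine (Subgroup.closure_le _).2 fun v hv => ?_
    by_contra hne
    apply hv
    rw [hcount, Finset.filter_eq_empty_iff.2 (fun u _ hu => hne ⟨u, hu.2⟩), Finset.card_empty,
      Nat.cast_zero]
  have hrange : (powMonoidHom p : C →* C).range ≠ ⊤ := by
    intro htop
    obtain ⟨y, hy⟩ := exists_prime_orderOf_dvd_card' p hp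
    have hinj := Finite.injective_iff_surjective.2 (MonoidHom.range_eq_top.1 htop)
    have : y = 1 := hinj (a₁ := y) (a₂ := 1) (by
      show y ^ p = (1 : C) ^ p
      rw [one_pow, ← hy, pow_orderOf_eq_one])
    rw [this, orderOf_one] at hy
    exact (Fact.out : p.Prime).one_lt.ne hy
  have hbot := (h.prim _ (h.closure hW)).resolve_right fun htop => hrange (top_le_iff.1 (htop ▸ hWle))
  have h0 : (f ^ p).coeff (t ^ p) = 0 := by
    by_contra hne
    exact htp (Subgroup.mem_bot.1 (hbot ▸ Subgroup.subset_closure (show t ^ p ∈ W from hne)))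
  rw [hcount, ZMod.natCast_eq_zero_iff] at h0
  let S := Finset.univ.filter fun u => u ∈ T ∧ u ^ p = t ^ p
  let F := Finset.univ.filter fun u : C => u ^ p = t ^ p
  have hF : F.card ≤ p := by
    refine le_trans ?_ (IsCyclic.card_pow_eq_one_le (α := C) (Fact.out : p.Prime).pos)
    refine Finset.card_le_card_of_injOn (fun u => t⁻¹ * u) ?_ (fun u _ v _ huv => mul_left_cancel huv)
    intro u hu
    have hu' : u ^ p = t ^ p := (Finset.mem_filter.1 hu).2
    simp [mul_pow, hu']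
  have hS : 0 < S.card := Finset.card_pos.2 ⟨t, by simp [S, ht]⟩
  have hSF : S = F := Finset.eq_of_subset_of_card_le
    (fun u hu => by simp [S, F] at hu ⊢; exact hu.2) (hF.trans (Nat.le_of_dvd hS h0))
  have hte : t * e ∈ F := by simp [F, mul_pow, he]
  rw [← hSF] at hte
  exact (Finset.mem_filter.1 hte).2.1

theorem schur (h : IsStab Φ) [Fintype C] [IsCyclic C] {p q : ℕ} (hp : p.Prime) (hq : q.Prime)
    (hpq : p ≠ q) (hpd : p ∣ Nat.card C) (hqd : q ∣ Nat.card C) :
    ∀ x y : C, x ≠ 1 → y ≠ 1 → ∃ σ ∈ Φ, σ x = y := by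
  classical
  have := Fact.mk hp
  have := Fact.mk hq
  let T : C → Set C := fun x => {c | ∃ σ ∈ Φ, σ x = c}
  have hTinv : ∀ x, ∀ σ ∈ Φ, ∀ c ∈ T x, σ c ∈ T x := by
    rintro x σ hσ c ⟨τ, hτ, rfl⟩
    exact ⟨τ.trans σ, h.comp τ hτ σ hσ, rfl⟩
  obtain ⟨a, ha⟩ := exists_prime_orderOf_dvd_card' p hpd
  obtain ⟨b, hb⟩ := exists_prime_orderOf_dvd_card' q hqd
  have hap : a ^ p = 1 := ha ▸ pow_orderOf_eq_one a
  have hbq : b ^ q = 1 := hb ▸ pow_orderOf_eq_one b
  have hcop : ∀ c : C, c ^ p = 1 → c ^ q = 1 → c = 1 := fun c h1 h2 => by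
    have := (pow_gcd_eq_one (a := c)).2 ⟨h1, h2⟩
    rwa [((Nat.coprime_primes hp hq).2 hpq).gcd_eq_one, pow_one] at this
  have key : ∀ x, x ≠ 1 → a * b ∈ T x := by
    intro x hx
    have h1T : (1 : C) ∉ T x := by
      rintro ⟨σ, hσ, hσx⟩
      exact hx (σ.injective (hσx.trans (h.one σ hσ).symm))
    have hmeet : ∃ t ∈ T x, t ^ q = 1 := by
      by_contra hno
      push Not at hno
      let R : Subgroup C :=
        { carrier := {c | ∀ t, t ∈ T x ↔ t * c ∈ T x}
          one_mem' := fun t => by simp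
          mul_mem' := fun {u v} hu hv t => by
            rw [← mul_assoc]; exact (hu t).trans (hv _)
          inv_mem' := fun {u} hu t => by
            simpa using (hu (t * u⁻¹)).symm }
      have hmap : ∀ c : C, (∀ t ∈ T x, t * c ∈ T x) → c ∈ R := fun c hc t => by
        refine ⟨hc t, fun ht => ?_⟩
        obtain ⟨⟨u, hu⟩, he⟩ := (Finite.injective_iff_surjective
          (f := fun u : T x => (⟨(u : C) * c, hc u u.2⟩ : T x))).1 (fun u v huv =>
            Subtype.ext (mul_right_cancel (congrArg Subtype.val huv))) ⟨_, ht⟩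
        have hut : u = t := mul_right_cancel (congrArg Subtype.val he)
        exact hut ▸ hu
      have hRinv : ∀ σ ∈ Φ, ∀ c ∈ R, σ c ∈ R := by
        intro σ hσ c hc
        refine hmap _ fun t ht => ?_
        obtain ⟨τ, hτ, hct⟩ := h.shift σ hσ c
        have ht' : τ.symm t ∈ T x := hTinv x _ (h.inv τ hτ) t ht
        have hm := hTinv x σ hσ _ ((hc (τ.symm t)).1 ht')
        rw [mul_comm (τ.symm t) c, hct, Equiv.apply_symm_apply] at hm
        rwa [mul_comm]
      have hbR : b ∈ R := hmap b fun t ht => coset_mem h hqd (hTinv x) ht (hno t ht) hbq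
      rcases h.prim R hRinv with hR | hR
      · rw [hR, Subgroup.mem_bot] at hbR
        rw [hbR, orderOf_one] at hb
        exact hq.one_lt.ne hb
      · have hmem : x⁻¹ ∈ R := hR ▸ Subgroup.mem_top _
        have := (hmem x).1 ⟨_, h.id, rfl⟩
        rw [mul_inv_cancel] at this
        exact h1T this
    obtain ⟨t, ht, htq⟩ := hmeet
    have ht1 : t ≠ 1 := fun e => h1T (e ▸ ht)
    have htp : t ^ p ≠ 1 := fun e => ht1 (hcop t e htq)
    have h1 : t * a ∈ T x := coset_mem h hpd (hTinv x) ht htp hap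
    have htaq : (t * a) ^ q ≠ 1 := by
      rw [mul_pow, htq, one_mul]
      intro e
      rw [hcop a hap e, orderOf_one] at ha
      exact hp.one_lt.ne ha
    have h2 := coset_mem h hqd (hTinv x) h1 htaq (show (t⁻¹ * b) ^ q = 1 by simp [mul_pow, htq, hbq])
    rwa [show t * a * (t⁻¹ * b) = a * b by rw [mul_comm t a]; group] at h2
  intro x y hx hy
  obtain ⟨σ, hσ, h1⟩ := key x hx
  obtain ⟨τ, hτ, h2⟩ := key y hy
  exact ⟨σ.trans τ.symm, h.comp σ hσ _ (h.inv τ hτ), by simp [h1, ← h2]⟩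

end Cfsg.Agent.Lib.RecogThree.SchurRegular
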