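import Cfsg.Agent.Lib.RecogThree.MinNormalFactors

/-! Extremely primitive groups: the key contradictions for non-simple socles. -/

namespace Cfsg.Agent.Lib.RecogThree.ExtremelyPrimitive

open MinNormalFactors

theorem sum_inv_sq_le : ∀ N : ℕ, 2 ≤ N →
    ∑ n ∈ Finset.Icc 2 N, (1 : ℚ) / (n : ℚ) ^ 2 ≤ 3 / 4 - 1 / (N : ℚ) := by
  intro N hN
  induction N, hN using Nat.le_induction with
  | base => norm_num
  | succ N hN ih =>
    rw [Finset.sum_Icc_succ_top (by omega)]
    have hN' : (0 : ℚ) < N := by exact_mod_cast (by omega : 0 < N)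
    have h : (1 : ℚ) / ((N + 1 : ℕ) : ℚ) ^ 2 ≤ 1 / (N : ℚ) - 1 / ((N + 1 : ℕ) : ℚ) := by
      push_cast
      rw [div_sub_div _ _ hN'.ne' (by positivity), div_le_div_iff₀ (by positivity) (by positivity)]
      nlinarith
    linarith

/-- No non-abelian finite simple group has all centralisers self-normalising and constant along
cyclic subgroups. -/
theorem false_of_centralizers {M : Type*} [Group M] [Finite M] [IsSimpleGroup M]
    (hna : ∃ a b : M, a * b ≠ b * a)
    (h1 : ∀ x : M, ∀ k : ℕ, x ^ k ≠ 1 →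
      Subgroup.centralizer ({x ^ k} : Set M) = Subgroup.centralizer {x})
    (h2 : ∀ x : M, x ≠ 1 → ∀ m : M,
      (∀ c, c ∈ Subgroup.centralizer ({x} : Set M) → m * c * m⁻¹ ∈ Subgroup.centralizer {x}) →
      m ∈ Subgroup.centralizer {x}) : False := by
  classical
  have := Fintype.ofFinite M
  -- a nontrivial subgroup with abelian Sylow self-normalising part is impossible
  have burnside : ∀ {p : ℕ} [Fact p.Prime] (P : Sylow p M), (P : Subgroup M) ≠ ⊥ →
      Subgroup.normalizer ((P : Subgroup M) : Set M) ≤ Subgroup.centralizer ((P : Subgroup M) : Set M) →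
      False := by
    intro p _ P hP hle
    have hc := MonoidHom.ker_transferSylow_isComplement' P hle
    have hn : (MonoidHom.transferSylow P hle).ker.Normal := inferInstance
    rcases hn.eq_bot_or_eq_top with h | h
    · rw [h, Subgroup.isComplement'_bot_left] at hc
      have hM : IsPGroup p M := by
        have := P.isPGroup'
        rw [hc] at this
        exact this.of_equiv Subgroup.topEquiv
      obtain ⟨a, b, hab⟩ := hna
      have hz := hM.center_nontrivial
      rcases (inferInstance : (Subgroup.center M).Normal).eq_bot_or_eq_top with hb | ht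
      · exact (Subgroup.nontrivial_iff_ne_bot _).1 hz hb
      · exact hab (Subgroup.mem_center_iff.1 (ht ▸ Subgroup.mem_top b) a)
    · rw [h, Subgroup.isComplement'_top_left] at hc
      exact hP hc
  -- growing a p-subgroup
  have sylow_of : ∀ {p : ℕ} [Fact p.Prime] (P : Subgroup M), IsPGroup p P →
      (∀ m ∈ Subgroup.normalizer (P : Set M), (∃ Q : Subgroup M, IsPGroup p Q ∧ P ≤ Q ∧ m ∈ Q) → m ∈ P) →
      ∃ S : Sylow p M, (S : Subgroup M) = P := by
    intro p _ P hP hN
    obtain ⟨S, hS⟩ := hP.exists_le_sylow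
    refine ⟨S, le_antisymm ?_ hS⟩
    by_contra hne
    have : Group.IsNilpotent ↥(S : Subgroup M) := S.isPGroup'.isNilpotent
    have hlt : P.subgroupOf S < ⊤ := by
      refine lt_top_iff_ne_top.2 fun h => hne ?_
      exact Subgroup.subgroupOf_eq_top.1 h
    obtain ⟨m, hm, hm'⟩ := SetLike.exists_of_lt (Group.normalizerCondition_of_isNilpotent _ hlt)
    refine hm' (hN m ?_ ⟨S, S.isPGroup', hS, m.2⟩)
    rw [Subgroup.mem_normalizer_iff] at hm ⊢
    intro h
    constructor
    · intro hh
      have := (hm ⟨h, hS hh⟩).1 hh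
      exact this
    · intro hh
      have hh' : h ∈ (S : Subgroup M) := by
        have := (S : Subgroup M).mul_mem ((S : Subgroup M).mul_mem ((S : Subgroup M).inv_mem m.2) (hS hh)) m.2
        simpa [mul_assoc] using this
      exact (hm ⟨h, hh'⟩).2 hh
  have hmemC : ∀ {x y : M}, y ∈ Subgroup.centralizer ({x} : Set M) ↔ y * x = x * y :=
    fun {x y} => Subgroup.mem_centralizer_singleton_iff
  -- conjugating centralisers
  have conjC : ∀ (x m c : M), c ∈ Subgroup.centralizer ({x} : Set M) →
      m * c * m⁻¹ ∈ Subgroup.centralizer ({m * x * m⁻¹} : Set M) := by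
    intro x m c hc
    rw [hmemC] at hc ⊢
    calc m * c * m⁻¹ * (m * x * m⁻¹) = m * (c * x) * m⁻¹ := by group
      _ = m * (x * c) * m⁻¹ := by rw [hc]
      _ = m * x * m⁻¹ * (m * c * m⁻¹) := by group
  -- prime order powers
  have prime_power : ∀ y : M, y ≠ 1 → ∀ r : ℕ, r.Prime → r ∣ orderOf y →
      ∃ k : ℕ, orderOf (y ^ k) = r ∧ Subgroup.centralizer ({y ^ k} : Set M) = Subgroup.centralizer {y} := by
    intro y _ r hr hd
    have ho : orderOf (y ^ (orderOf y / r)) = r := orderOf_pow_orderOf_div (orderOf_pos y).ne' hd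
    refine ⟨_, ho, h1 _ _ fun h => ?_⟩
    rw [h, orderOf_one] at ho
    exact hr.one_lt.ne ho
  -- commuting elements of different prime order
  have cop : ∀ x y : M, ∀ p q : ℕ, p.Prime → q.Prime → p ≠ q → orderOf x = p → orderOf y = q →
      x * y = y * x → Subgroup.centralizer ({x} : Set M) = Subgroup.centralizer {y} := by
    intro x y p q hp hq hne hx hy hxy
    have key : ∀ (x y : M) (p q : ℕ), p.Prime → q.Prime → p ≠ q → orderOf x = p → orderOf y = q →
        Commute x y → Subgroup.centralizer ({x} : Set M) = Subgroup.centralizer {x * y} := by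
      intro x y p q hp hq hne hx hy hxy
      have hxq : x ^ q ≠ 1 := fun h => hne
        ((Nat.prime_dvd_prime_iff_eq hp hq).1 (hx ▸ orderOf_dvd_of_pow_eq_one h))
      have e : (x * y) ^ q = x ^ q := by rw [hxy.mul_pow, ← hy, pow_orderOf_eq_one, mul_one]
      rw [← h1 x q hxq, ← h1 (x * y) q (e ▸ hxq), e]
    rw [key x y p q hp hq hne hx hy hxy, key y x q p hq hp (Ne.symm hne) hy hx (Commute.symm hxy), hxy]
  -- every centraliser is a non-abelian Sylow subgroup
  have main : ∀ x : M, x ≠ 1 → ∃ p : ℕ, p.Prime ∧ p ∣ orderOf x ∧ ∃ P : Sylow p M,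
      (P : Subgroup M) = Subgroup.centralizer ({x} : Set M) ∧
      ∃ a ∈ (P : Subgroup M), ∃ b ∈ (P : Subgroup M), a * b ≠ b * a := by
    intro x hx
    obtain ⟨p, hp, hpd⟩ := Nat.exists_prime_and_dvd (mt orderOf_eq_one_iff.1 hx)
    have := Fact.mk hp
    obtain ⟨k, hk, hkC⟩ := prime_power x hx p hp hpd
    refine ⟨p, hp, hpd, ?_⟩
    by_cases hq : ∃ y ∈ Subgroup.centralizer ({x} : Set M), ∃ q : ℕ, q.Prime ∧ q ≠ p ∧ orderOf y = q
    · exfalso
      obtain ⟨y, hy, q, hq, hqp, hyo⟩ := hq
      rw [← hkC] at hy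
      have hxy := cop _ y p q hp hq (Ne.symm hqp) hk hyo (hmemC.1 hy).symm
      have hall : ∀ u ∈ Subgroup.centralizer ({x} : Set M), u ≠ 1 →
          Subgroup.centralizer ({u} : Set M) = Subgroup.centralizer {x} := by
        intro u hu hu1
        obtain ⟨r, hr, hrd⟩ := Nat.exists_prime_and_dvd (mt orderOf_eq_one_iff.1 hu1)
        obtain ⟨i, hi, hiC⟩ := prime_power u hu1 r hr hrd
        have hu' : u ^ i ∈ Subgroup.centralizer ({x} : Set M) := Subgroup.pow_mem _ hu i
        rw [← hiC]
        by_cases hrp : r = p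
        · rw [← hkC, hxy] at hu' ⊢
          exact cop _ _ r q hr hq (hrp ▸ Ne.symm hqp) hi hyo (hmemC.1 hu')
        · rw [← hkC] at hu' ⊢
          exact cop _ _ r p hr hp hrp hi hk (hmemC.1 hu')
      let S : Sylow p ↥(Subgroup.centralizer ({x} : Set M)) := default
      let P : Subgroup M := (S : Subgroup _).map (Subgroup.centralizer ({x} : Set M)).subtype
      have hPC : P ≤ Subgroup.centralizer ({x} : Set M) := Subgroup.map_subtype_le _
      have hPp : IsPGroup p P := S.isPGroup'.map _
      have hxk : x ^ k ∈ Subgroup.centralizer ({x} : Set M) :=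
        Subgroup.pow_mem _ (hmemC.2 rfl) k
      have hPne : P ≠ ⊥ := by
        intro h
        have hS := S.card_eq_multiplicity
        have h0 : (S : Subgroup ↥(Subgroup.centralizer ({x} : Set M))) = ⊥ :=
          (Subgroup.map_eq_bot_iff_of_injective (H := (S : Subgroup _))
            (f := (Subgroup.centralizer ({x} : Set M)).subtype) Subtype.val_injective).1 h
        rw [show Nat.card S = Nat.card (S : Subgroup ↥(Subgroup.centralizer ({x} : Set M))) from rfl,
          h0, Subgroup.card_bot] at hS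
        have hd : p ∣ Nat.card ↥(Subgroup.centralizer ({x} : Set M)) := by
          rw [← hk, ← Subgroup.orderOf_mk _ hxk]
          exact orderOf_dvd_natCard _
        have := (hp.factorization_pos_of_dvd Nat.card_pos.ne' hd)
        have h3 : p ^ 1 ≤ p ^ (Nat.card ↥(Subgroup.centralizer ({x} : Set M))).factorization p :=
          Nat.pow_le_pow_right hp.pos this
        rw [← hS, pow_one] at h3
        exact absurd h3 (Nat.not_le.2 hp.one_lt)
      have hNP : ∀ m ∈ Subgroup.normalizer (P : Set M), m ∈ Subgroup.centralizer ({x} : Set M) := by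
        intro m hm
        obtain ⟨⟨u, hu⟩, hu1⟩ := (Subgroup.nontrivial_iff_exists_ne_one P).1
          ((Subgroup.nontrivial_iff_ne_bot P).2 hPne) |> fun ⟨u, hu, h⟩ =>
            (⟨⟨u, hu⟩, h⟩ : ∃ z : P, (z : M) ≠ 1)
        refine h2 x hx m fun c hc => ?_
        have hmu : m * u * m⁻¹ ∈ P := ((Subgroup.mem_normalizer_iff.1 hm) u).1 hu
        have := conjC u m c (by rw [hall u (hPC hu) hu1]; exact hc)
        rwa [hall _ (hPC hmu) (fun h => hu1 (conj_eq_one_iff.1 h))] at this
      obtain ⟨S', hS'⟩ := sylow_of P hPp fun m hm ⟨Q, hQ, hPQ, hmQ⟩ => by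
        have hmC := hNP m hm
        have hle : S.1 ≤ Q.subgroupOf (Subgroup.centralizer ({x} : Set M)) :=
          fun z hz => hPQ ⟨z, hz, rfl⟩
        have hmax := S.3 (hQ.comap_of_injective _ Subtype.val_injective) hle
        exact ⟨⟨m, hmC⟩, hmax ▸ (show (⟨m, hmC⟩ : ↥(Subgroup.centralizer ({x} : Set M))) ∈
          Q.subgroupOf _ from hmQ), rfl⟩
      refine burnside S' (hS' ▸ hPne) fun m hm => ?_
      rw [hS'] at hm ⊢
      rw [Subgroup.mem_centralizer_iff]
      intro u hu
      by_cases hu1 : u = 1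
      · simp [hu1]
      · have hmC := hNP m hm
        rw [← hall u (hPC hu) hu1] at hmC
        exact (hmemC.1 hmC).symm
    · push Not at hq
      have hCp : IsPGroup p ↥(Subgroup.centralizer ({x} : Set M)) := by
        refine IsPGroup.of_card (n := (Nat.card ↥(Subgroup.centralizer ({x} : Set M))).primeFactorsList.length)
          (Nat.eq_prime_pow_of_unique_prime_dvd Nat.card_pos.ne' ?_)
        intro r hr hrd
        have := Fact.mk hr
        obtain ⟨y, hy⟩ := exists_prime_orderOf_dvd_card' r hrd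
        by_contra hrp
        exact hq y y.2 r hr hrp (by rw [Subgroup.orderOf_coe, hy])
      obtain ⟨S, hS⟩ := sylow_of _ hCp fun m hm _ =>
        h2 x hx m fun c hc => ((Subgroup.mem_normalizer_iff.1 hm) c).1 hc
      refine ⟨S, hS, ?_⟩
      by_contra habel
      push Not at habel
      refine burnside S (fun h => ?_) fun m hm => ?_
      · have hx' : x ∈ (S : Subgroup M) := by rw [hS]; exact hmemC.2 rfl
        rw [h] at hx'
        exact hx (Subgroup.mem_bot.1 hx')
      · have hmC : m ∈ (S : Subgroup M) := by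
          rw [hS] at hm ⊢
          exact h2 x hx m fun c hc => ((Subgroup.mem_normalizer_iff.1 hm) c).1 hc
        rw [Subgroup.mem_centralizer_iff]
        exact fun u hu => habel u hu m hmC
  -- counting
  choose pr hpr hprd P hPC hPna using main
  let N := Nat.card M
  let T : ℕ → Finset M := fun p => Finset.univ.filter fun x => ∃ hx : x ≠ 1, pr x hx = p
  have hT : ∀ p : ℕ, p.Prime → ((T p).card : ℚ) ≤ (N : ℚ) * (1 / (p : ℚ) ^ 2) := by
    intro p hp
    have := Fact.mk hp
    have := Fintype.ofFinite (Sylow p M)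
    let Z : Sylow p M → Finset M := fun Q => Finset.univ.filter fun z =>
      z ∈ (Q : Subgroup M) ∧ (∀ u ∈ (Q : Subgroup M), u * z = z * u) ∧
      ∃ a ∈ (Q : Subgroup M), ∃ b ∈ (Q : Subgroup M), a * b ≠ b * a
    have hsub : T p ⊆ Finset.univ.biUnion Z := by
      intro x hx
      obtain ⟨hx1, rfl⟩ := (Finset.mem_filter.1 hx).2
      refine Finset.mem_biUnion.2 ⟨P x hx1, Finset.mem_univ _, Finset.mem_filter.2
        ⟨Finset.mem_univ _, ?_, ?_, hPna x hx1⟩⟩
      · rw [hPC x hx1]; exact hmemC.2 rfl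
      · intro u hu
        rw [hPC x hx1] at hu
        exact hmemC.1 hu
    have hZ : ∀ Q : Sylow p M, p ^ 2 * (Z Q).card ≤ Nat.card (Q : Subgroup M) := by
      intro Q
      by_cases he : (Z Q).Nonempty
      · obtain ⟨z, hz⟩ := he
        obtain ⟨-, -, -, a, ha, b, hb, hab⟩ := Finset.mem_filter.1 hz
        have hle : (Z Q).card ≤ Nat.card (Subgroup.center ↥(Q : Subgroup M)) := by
          rw [← Nat.card_eq_finsetCard]
          refine Nat.card_le_card_of_injective
            (fun z => (⟨⟨z.1, (Finset.mem_filter.1 z.2).2.1⟩, Subgroup.mem_center_iff.2 fun u =>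
              Subtype.ext ((Finset.mem_filter.1 z.2).2.2.1 u u.2)⟩ :
                Subgroup.center ↥(Q : Subgroup M))) fun u v h => ?_
          exact Subtype.ext (congrArg (fun w : Subgroup.center ↥(Q : Subgroup M) => ((w : ↥(Q : Subgroup M)) : M)) h)
        obtain ⟨k, hk⟩ := Q.isPGroup'.index (Subgroup.center ↥(Q : Subgroup M))
        have hk2 : 2 ≤ k := by
          by_contra hk2
          have hcyc : IsCyclic (↥(Q : Subgroup M) ⧸ Subgroup.center ↥(Q : Subgroup M)) := by
            have hc : Nat.card (↥(Q : Subgroup M) ⧸ Subgroup.center ↥(Q : Subgroup M)) = p ^ k := hk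
            interval_cases k
            · have : Subsingleton (↥(Q : Subgroup M) ⧸ Subgroup.center ↥(Q : Subgroup M)) :=
                (Nat.card_eq_one_iff_unique.1 (by simpa using hc)).1
              infer_instance
            · exact isCyclic_of_prime_card (p := p) (by simpa using hc)
          have := (MonoidHom.isMulCommutative_of_isCyclic_of_ker_le_center
            (QuotientGroup.mk' (Subgroup.center ↥(Q : Subgroup M))) (QuotientGroup.ker_mk' _).le).is_comm.comm
            ⟨a, ha⟩ ⟨b, hb⟩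
          exact hab (congrArg Subtype.val this)
        rw [← Subgroup.index_mul_card (Subgroup.center ↥(Q : Subgroup M)), hk]
        exact Nat.mul_le_mul (Nat.pow_le_pow_right hp.pos hk2) hle
      · simp [Finset.not_nonempty_iff_eq_empty.1 he]
    have hcount : p ^ 2 * (T p).card ≤ N := by
      refine le_trans (Nat.mul_le_mul_left _ ((Finset.card_le_card hsub).trans Finset.card_biUnion_le)) ?_
      rw [Finset.mul_sum]
      refine le_trans (Finset.sum_le_sum fun Q _ => hZ Q) ?_
      obtain ⟨Q⟩ : Nonempty (Sylow p M) := inferInstance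
      have hR : ∀ R : Sylow p M, Nat.card ↥(R : Subgroup M) = Nat.card ↥(Q : Subgroup M) := fun R =>
        (R.card_eq_multiplicity).trans Q.card_eq_multiplicity.symm
      rw [Finset.sum_congr rfl (fun R _ => hR R), Finset.sum_const, smul_eq_mul,
        Finset.card_univ, ← Nat.card_eq_fintype_card]
      refine le_trans (Nat.mul_le_mul_right _ (Nat.le_of_dvd
        (Nat.pos_of_ne_zero Subgroup.index_ne_zero_of_finite) Q.card_dvd_index)) ?_
      rw [Subgroup.index_mul_card]
    have h2' : ((p : ℚ) ^ 2) * ((T p).card : ℚ) ≤ (N : ℚ) := by exact_mod_cast hcount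
    rw [mul_one_div, le_div_iff₀ (by have := hp.pos; positivity)]
    linarith
  have hN2 : 2 ≤ N := Finite.one_lt_card
  have hcover : (Finset.univ.erase (1 : M)) ⊆
      ((Finset.Icc 2 N).filter Nat.Prime).biUnion T := by
    intro x hx
    have hx1 := (Finset.mem_erase.1 hx).1
    refine Finset.mem_biUnion.2 ⟨pr x hx1, Finset.mem_filter.2 ⟨Finset.mem_Icc.2
      ⟨(hpr x hx1).two_le, ?_⟩, hpr x hx1⟩, Finset.mem_filter.2 ⟨Finset.mem_univ _, hx1, rfl⟩⟩
    exact (Nat.le_of_dvd (orderOf_pos x) (hprd x hx1)).trans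
      (Nat.le_of_dvd (Nat.card_pos (α := M)) (orderOf_dvd_natCard x))
  have hc := (Finset.card_le_card hcover).trans Finset.card_biUnion_le
  rw [Finset.card_erase_of_mem (Finset.mem_univ _), Finset.card_univ, ← Nat.card_eq_fintype_card] at hc
  have hc' : ((N - 1 : ℕ) : ℚ) ≤ ∑ p ∈ (Finset.Icc 2 N).filter Nat.Prime, ((T p).card : ℚ) := by
    exact_mod_cast hc
  have h3 : ∑ p ∈ (Finset.Icc 2 N).filter Nat.Prime, ((T p).card : ℚ) ≤
      ∑ n ∈ Finset.Icc 2 N, (N : ℚ) * (1 / (n : ℚ) ^ 2) := by
    refine le_trans (Finset.sum_le_sum fun p hp => hT p (Finset.mem_filter.1 hp).2) ?_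
    exact Finset.sum_le_sum_of_subset_of_nonneg (Finset.filter_subset _ _) fun i _ _ => by positivity
  rw [← Finset.mul_sum] at h3
  have h4 := mul_le_mul_of_nonneg_left (sum_inv_sq_le N hN2) (Nat.cast_nonneg (α := ℚ) N)
  have h5 : (N : ℚ) * (1 / (N : ℚ)) = 1 := by
    have : (N : ℚ) ≠ 0 := by exact_mod_cast (by omega : N ≠ 0)
    field_simp
  rw [Nat.cast_sub (by omega), Nat.cast_one] at hc'
  rw [mul_sub, h5] at h4
  have : (2 : ℚ) ≤ N := by exact_mod_cast hN2
  linarith

variable {G Ω : Type*} [Group G] [Finite G] [MulAction G Ω]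

/-- The semiregular case: a group `J` of elements fixing `a` inducing all inner automorphisms of `M`. -/
theorem false_of_semiregular {N M : Subgroup G} (hF : Factor N M) (a : Ω) (J : Subgroup G)
    (hJa : J ≤ MulAction.stabilizer G a)
    (hJn : ∀ g ∈ MulAction.stabilizer G a, ∀ j ∈ J, g * j * g⁻¹ ∈ J)
    (hJ : ∀ j ∈ J, ∃ m ∈ M, ∀ y ∈ M, j * y * j⁻¹ = m * y * m⁻¹)
    (hlift : ∀ m ∈ M, ∃ j ∈ J, ∀ y ∈ M, j * y * j⁻¹ = m * y * m⁻¹)
    (hsemi : ∀ x ∈ M, x • a = a → x = 1)
    (hmax : ∀ b : Ω, b ≠ a → ∀ U : Subgroup G, U ≤ MulAction.stabilizer G a →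
      MulAction.stabilizer G a ⊓ MulAction.stabilizer G b ≤ U →
      U = MulAction.stabilizer G a ⊓ MulAction.stabilizer G b ∨ U = MulAction.stabilizer G a)
    (hmov : ∀ b : Ω, b ≠ a → ¬ MulAction.stabilizer G a ≤ MulAction.stabilizer G b) : False := by
  have hne : ∀ x : M, x ≠ 1 → (x : G) • a ≠ a := fun x hx h => hx (Subtype.ext (hsemi _ x.2 h))
  have hact : ∀ g : G, g • a = a → ∀ x : G, g • x • a = (g * x * g⁻¹) • a := fun g hg x => by
    rw [mul_smul, mul_smul, inv_smul_eq_iff.2 hg.symm]
  have hfix : ∀ j ∈ J, ∀ m ∈ M, (∀ y ∈ M, j * y * j⁻¹ = m * y * m⁻¹) → ∀ x ∈ M,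
      (j • x • a = x • a ↔ m * x = x * m) := by
    intro j hj m hm hjm x hx
    rw [hact j (hJa hj) x, hjm x hx]
    constructor
    · intro h
      have h1 : (x⁻¹ * (m * x * m⁻¹)) • a = a := by rw [mul_smul, h, inv_smul_smul]
      have h2 := hsemi _ (M.mul_mem (M.inv_mem hx) (M.mul_mem (M.mul_mem hm hx) (M.inv_mem hm))) h1
      rw [inv_mul_eq_one] at h2
      exact (eq_mul_inv_iff_mul_eq.1 h2).symm
    · intro h; rw [h, mul_inv_cancel_right]
  have hpow : ∀ g : G, g • a = a → ∀ x ∈ M, g • x • a = x • a → ∀ k : ℕ,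
      g • x ^ k • a = x ^ k • a := by
    intro g hg x hx h k
    rw [hact g hg] at h
    rw [hact g hg, ← conj_pow]
    set y := g * x * g⁻¹
    by_cases hc : cj M g = M
    · have hy : y ∈ M := hc ▸ mem_cj.2 (by simpa [y, mul_assoc] using hx)
      have h1 : (x⁻¹ * y) • a = a := by rw [mul_smul, h, inv_smul_smul]
      rw [← inv_mul_eq_one.1 (hsemi _ (M.mul_mem (M.inv_mem hx) hy) h1)]
    · have hy : y ∈ cj M g := mem_cj.2 (by simpa [y, mul_assoc] using hx)
      have hxy : Commute x⁻¹ y := (hF.commute g hc _ (M.inv_mem hx) y hy)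
      have h1 : x⁻¹ * y ∈ MulAction.stabilizer G a := by
        rw [MulAction.mem_stabilizer_iff, mul_smul, h, inv_smul_smul]
      have h2 := pow_mem h1 k
      rw [hxy.mul_pow, MulAction.mem_stabilizer_iff, inv_pow, mul_smul, inv_smul_eq_iff] at h2
      exact h2
  have hcentral : ∀ x : M, x ≠ 1 → ∃ y : M, y * x ≠ x * y := by
    intro x hx
    by_contra h
    push Not at h
    exact hx (Subtype.ext (hF.centreless _ x.2 fun y hy =>
      (congrArg Subtype.val (h ⟨y, hy⟩)).symm))
  have hsimple : IsSimpleGroup M := by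
    have : Nontrivial M := (Subgroup.nontrivial_iff_ne_bot M).2 hF.ne_bot
    refine ⟨fun H hH => ?_⟩
    rcases hF.minimal (H.map M.subtype) (Subgroup.map_subtype_le H) (fun m hm x hx => by
      obtain ⟨y, hy, rfl⟩ := hx
      exact ⟨_, hH.conj_mem y hy ⟨m, hm⟩, rfl⟩) with h | h
    · exact Or.inl ((Subgroup.map_eq_bot_iff_of_injective _ M.subtype_injective).1 h)
    · right
      refine Subgroup.map_injective M.subtype_injective ?_
      rw [h, ← MonoidHom.range_eq_map, Subgroup.range_subtype]
  refine false_of_centralizers (M := M) ?_ ?_ ?_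
  · obtain ⟨x, hx⟩ := exists_ne (1 : M)
    obtain ⟨y, hy⟩ := hcentral x hx
    exact ⟨y, x, hy⟩
  · intro x k hk
    have hb : ((x : G) ^ k) • a ≠ a := by simpa using hne _ hk
    have hx : x ≠ 1 := fun h => hk (by rw [h, one_pow])
    have hle : MulAction.stabilizer G a ⊓ MulAction.stabilizer G ((x : G) • a) ≤
        MulAction.stabilizer G a ⊓ MulAction.stabilizer G (((x : G) ^ k) • a) := fun g hg =>
      ⟨hg.1, hpow g hg.1 x x.2 hg.2 k⟩
    rcases hmax _ (hne x hx) _ inf_le_left hle with he | he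
    · ext c
      rw [Subgroup.mem_centralizer_singleton_iff, Subgroup.mem_centralizer_singleton_iff]
      constructor
      · intro hc
        obtain ⟨j, hj, hjc⟩ := hlift c c.2
        have h1 : j ∈ MulAction.stabilizer G a ⊓ MulAction.stabilizer G (((x : G) ^ k) • a) :=
          ⟨hJa hj, (hfix j hj c c.2 hjc _ (M.pow_mem x.2 k)).2 (by
            simpa using congrArg Subtype.val hc)⟩
        rw [he] at h1
        exact Subtype.ext ((hfix j hj c c.2 hjc _ x.2).1 h1.2)
      · intro hc
        exact (Commute.pow_right (show Commute c x from hc) k).eq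
    · exact absurd (he ▸ inf_le_right) (hmov _ hb)
  · intro x hx m hm
    let b := (x : G) • a
    let L : Subgroup G := J ⊓ MulAction.stabilizer G b
    let U : Subgroup G := MulAction.stabilizer G a ⊓ Subgroup.normalizer (L : Set G)
    have hSU : MulAction.stabilizer G a ⊓ MulAction.stabilizer G b ≤ U := by
      rintro s ⟨hsa, hsb⟩
      refine ⟨hsa, Subgroup.mem_normalizer_iff.2 fun l => ⟨fun hl => ?_, fun hl => ?_⟩⟩
      · exact ⟨hJn s hsa l hl.1,
          Subgroup.mul_mem _ (Subgroup.mul_mem _ hsb hl.2) (Subgroup.inv_mem _ hsb)⟩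
      · have h1 := hJn s⁻¹ (Subgroup.inv_mem _ hsa) _ hl.1
        have h2 := Subgroup.mul_mem _ (Subgroup.mul_mem _ (Subgroup.inv_mem _ hsb) hl.2) hsb
        refine ⟨by simpa [mul_assoc] using h1, by simpa [mul_assoc] using h2⟩
    -- lifts of the normalised centraliser
    have hliftU : ∀ c : M, (∀ d, d ∈ Subgroup.centralizer ({x} : Set M) →
        c * d * c⁻¹ ∈ Subgroup.centralizer ({x} : Set M)) →
        ∀ j ∈ J, (∀ y ∈ M, j * y * j⁻¹ = (c : G) * y * (c : G)⁻¹) → j ∈ U := by
      intro c hc j hj hjc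
      refine ⟨hJa hj, ?_⟩
      have hmap : ∀ l ∈ L, j * l * j⁻¹ ∈ L := by
        intro l hl
        refine ⟨hJn j (hJa hj) l hl.1, ?_⟩
        obtain ⟨d, hd, hld⟩ := hJ l hl.1
        have hdx : (⟨d, hd⟩ : M) ∈ Subgroup.centralizer ({x} : Set M) :=
          Subgroup.mem_centralizer_singleton_iff.2 (Subtype.ext ((hfix l hl.1 d hd hld _ x.2).1 hl.2))
        have h1 := Subgroup.mem_centralizer_singleton_iff.1 (hc _ hdx)
        refine (hfix _ (hJn j (hJa hj) l hl.1) ((c : G) * d * (c : G)⁻¹)
          (M.mul_mem (M.mul_mem c.2 hd) (M.inv_mem c.2)) ?_ _ x.2).2 (congrArg Subtype.val h1)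
        intro y hy
        have hy1 : (c : G)⁻¹ * y * c ∈ M := M.mul_mem (M.mul_mem (M.inv_mem c.2) hy) c.2
        have e : j⁻¹ * y * j = (c : G)⁻¹ * y * c := by
          have := hjc _ hy1
          rw [show (c : G) * ((c : G)⁻¹ * y * c) * (c : G)⁻¹ = y by group] at this
          calc j⁻¹ * y * j = j⁻¹ * (j * ((c : G)⁻¹ * y * c) * j⁻¹) * j := by rw [this]
            _ = _ := by group
        calc (j * l * j⁻¹) * y * (j * l * j⁻¹)⁻¹ = j * (l * (j⁻¹ * y * j) * l⁻¹) * j⁻¹ := by group
          _ = (c : G) * (d * ((c : G)⁻¹ * y * c) * d⁻¹) * (c : G)⁻¹ := by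
            rw [e, hld _ hy1, hjc _ (M.mul_mem (M.mul_mem hd hy1) (M.inv_mem hd))]
          _ = _ := by group
      have hfin : Finite L := inferInstance
      change j ∈ Subgroup.normalizer (L : Set G)
      rw [Subgroup.mem_normalizer_iff]
      refine fun l => ⟨hmap l, fun hl => ?_⟩
      obtain ⟨l', hl'⟩ := (Finite.injective_iff_surjective
        (f := fun l : L => (⟨j * l * j⁻¹, hmap l l.2⟩ : L))).1 (fun u v h =>
          Subtype.ext (mul_left_cancel (mul_right_cancel (congrArg Subtype.val h)))) ⟨_, hl⟩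
      have : (l' : G) = l := by simpa using congrArg Subtype.val hl'
      exact this ▸ l'.2
    obtain ⟨j, hj, hjm⟩ := hlift m m.2
    have hjU := hliftU m hm j hj hjm
    rcases hmax b (hne x hx) U inf_le_left hSU with he | he
    · rw [he] at hjU
      exact Subgroup.mem_centralizer_singleton_iff.2 (Subtype.ext ((hfix j hj m m.2 hjm _ x.2).1 hjU.2))
    · exfalso
      have hCn : (Subgroup.centralizer ({x} : Set M)).Normal := by
        constructor
        intro d hd c
        obtain ⟨j, hj, hjc⟩ := hlift c c.2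
        have hjU : j ∈ U := by rw [he]; exact hJa hj
        obtain ⟨l, hl, hld⟩ := hlift d d.2
        have hlL : l ∈ L := ⟨hl, (hfix l hl d d.2 hld _ x.2).2
          (congrArg Subtype.val (Subgroup.mem_centralizer_singleton_iff.1 hd))⟩
        have h1 := ((Subgroup.mem_normalizer_iff.1 hjU.2) l).1 hlL
        obtain ⟨e, he', hee⟩ := hJ _ h1.1
        have hex := (hfix _ h1.1 e he' hee _ x.2).1 h1.2
        have heq : e = (c : G) * d * (c : G)⁻¹ := by
          have key : ∀ y ∈ M, e * y * e⁻¹ = ((c : G) * d * (c : G)⁻¹) * y * ((c : G) * d * (c : G)⁻¹)⁻¹ := by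
            intro y hy
            have hy1 : (c : G)⁻¹ * y * c ∈ M := M.mul_mem (M.mul_mem (M.inv_mem c.2) hy) c.2
            have e1 : j⁻¹ * y * j = (c : G)⁻¹ * y * c := by
              have := hjc _ hy1
              rw [show (c : G) * ((c : G)⁻¹ * y * c) * (c : G)⁻¹ = y by group] at this
              calc j⁻¹ * y * j = j⁻¹ * (j * ((c : G)⁻¹ * y * c) * j⁻¹) * j := by rw [this]
                _ = _ := by group
            rw [← hee y hy]
            calc (j * l * j⁻¹) * y * (j * l * j⁻¹)⁻¹ = j * (l * (j⁻¹ * y * j) * l⁻¹) * j⁻¹ := by group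
              _ = (c : G) * ((d : G) * ((c : G)⁻¹ * y * c) * (d : G)⁻¹) * (c : G)⁻¹ := by
                rw [e1, hld _ hy1, hjc _ (M.mul_mem (M.mul_mem d.2 hy1) (M.inv_mem d.2))]
              _ = _ := by group
          have := hF.centreless (((c : G) * d * (c : G)⁻¹)⁻¹ * e)
            (M.mul_mem (M.inv_mem (M.mul_mem (M.mul_mem c.2 d.2) (M.inv_mem c.2))) he') (fun y hy => by
              have hk := key y hy
              set f := (c : G) * d * (c : G)⁻¹
              calc f⁻¹ * e * y = f⁻¹ * (e * y * e⁻¹) * e := by group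
                _ = f⁻¹ * (f * y * f⁻¹) * e := by rw [hk]
                _ = y * (f⁻¹ * e) := by group)
          exact (inv_mul_eq_one.1 this).symm
        refine Subgroup.mem_centralizer_singleton_iff.2 (Subtype.ext ?_)
        rw [heq] at hex
        exact hex
      rcases hCn.eq_bot_or_eq_top with h | h
      · exact hx (Subgroup.mem_bot.1 (h ▸ Subgroup.mem_centralizer_singleton_iff.2 rfl))
      · obtain ⟨y, hy⟩ := hcentral x hx
        exact hy (Subgroup.mem_centralizer_singleton_iff.1 (h ▸ Subgroup.mem_top y))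

end Cfsg.Agent.Lib.RecogThree.ExtremelyPrimitive
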