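import Mathlib

/-! The affine group `F ⋊ C` for a cyclic multiplicative subgroup `C` of a finite field `F`,
and its element orders. -/

namespace Cfsg.Agent.Lib.RecogThree.FieldFrobenius

/-- pairs `(v, c)` acting as `x ↦ c x + v` -/
@[ext] structure Aff (F : Type*) [Field F] (C : Subgroup Fˣ) where
  v : F
  c : C

variable {F : Type*} [Field F] {C : Subgroup Fˣ}

/-- the scalar of an element -/
def Aff.s (x : Aff F C) : F := ((x.c : Fˣ) : F)

instance affMul : Mul (Aff F C) := ⟨fun x y => ⟨x.v + x.s * y.v, x.c * y.c⟩⟩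
instance affOne : One (Aff F C) := ⟨⟨0, 1⟩⟩
noncomputable instance affInv : Inv (Aff F C) := ⟨fun x => ⟨-((x.s)⁻¹ * x.v), x.c⁻¹⟩⟩

theorem mul_v (x y : Aff F C) : (x * y).v = x.v + x.s * y.v := rfl
theorem mul_c (x y : Aff F C) : (x * y).c = x.c * y.c := rfl
theorem one_v : (1 : Aff F C).v = 0 := rfl
theorem one_c : (1 : Aff F C).c = 1 := rfl
theorem mul_s (x y : Aff F C) : (x * y).s = x.s * y.s := by simp [Aff.s, mul_c]
theorem one_s : (1 : Aff F C).s = 1 := by simp [Aff.s, one_c]
theorem s_ne_zero (x : Aff F C) : x.s ≠ 0 := Units.ne_zero _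
theorem inv_v (x : Aff F C) : (x⁻¹).v = -((x.s)⁻¹ * x.v) := rfl
theorem inv_c (x : Aff F C) : (x⁻¹).c = x.c⁻¹ := rfl
theorem inv_s (x : Aff F C) : (x⁻¹).s = (x.s)⁻¹ := by simp [Aff.s, inv_c]

noncomputable instance affGroup : Group (Aff F C) where
  mul_assoc x y z := by
    ext
    · simp only [mul_v, mul_s]; ring
    · simp [mul_c, mul_assoc]
  one_mul x := by
    ext
    · simp [mul_v, one_v, one_s]
    · simp [mul_c, one_c]
  mul_one x := by
    ext
    · simp [mul_v, one_v]
    · simp [mul_c, one_c]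
  inv_mul_cancel x := by
    ext
    · simp [mul_v, inv_v, inv_s, one_v]
    · simp [mul_c, inv_c, one_c]

/-- `Aff F C` is in bijection with `F × C`. -/
def equivProd : Aff F C ≃ F × C where
  toFun x := (x.v, x.c)
  invFun x := ⟨x.1, x.2⟩
  left_inv _ := rfl
  right_inv _ := rfl

instance affFinite [Finite F] : Finite (Aff F C) := Finite.of_equiv _ equivProd.symm

theorem card_eq : Nat.card (Aff F C) = Nat.card F * Nat.card C := by
  rw [Nat.card_congr equivProd, Nat.card_prod]

/-- projection on the scalar part -/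
def proj : Aff F C →* C where
  toFun x := x.c
  map_one' := rfl
  map_mul' _ _ := rfl

theorem proj_apply (x : Aff F C) : proj x = x.c := rfl

theorem pow_v (x : Aff F C) (k : ℕ) : (x ^ k).v * (x.s - 1) = x.v * (x.s ^ k - 1) := by
  induction k with
  | zero => simp [one_v]
  | succ k ih => rw [pow_succ', mul_v, add_mul, mul_assoc, ih]; ring

theorem pow_c (x : Aff F C) (k : ℕ) : (x ^ k).c = x.c ^ k := map_pow proj x k

theorem orderOf_of_c_ne_one {x : Aff F C} (hx : x.c ≠ 1) : orderOf x = orderOf x.c := by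
  refine Nat.dvd_antisymm (orderOf_dvd_of_pow_eq_one ?_) (orderOf_map_dvd proj x)
  have hc : x.c ^ orderOf x.c = 1 := pow_orderOf_eq_one _
  ext
  · have h1 : x.s ≠ 1 := fun h => hx (Subtype.ext (Units.ext h))
    have h2 : x.s ^ orderOf x.c = 1 := by
      have := congrArg (fun c : C => ((c : Fˣ) : F)) hc
      simp only [SubgroupClass.coe_pow, Units.val_pow_eq_pow_val, OneMemClass.coe_one, Units.val_one] at this
      exact this
    have h3 := pow_v x (orderOf x.c)
    rw [h2, sub_self, mul_zero] at h3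
    exact (mul_eq_zero.1 h3).resolve_right (sub_ne_zero.2 h1)
  · simp [pow_c, hc, one_c]

open Classical in
theorem orderOf_of_c_eq_one (p : ℕ) [hp : Fact p.Prime] [CharP F p] {x : Aff F C} (hx : x.c = 1) :
    orderOf x = if x.v = 0 then 1 else p := by
  split_ifs with hv
  · rw [orderOf_eq_one_iff]; ext
    · exact hv
    · simp [hx, one_c]
  · have hpow : ∀ k : ℕ, (x ^ k).v = (k : F) * x.v := by
      intro k
      induction k with
      | zero => simp [one_v]
      | succ k ih => simp [pow_succ', mul_v, ih, Aff.s, hx]; ring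
    refine orderOf_eq_prime ?_ fun h => hv (by rw [h, one_v])
    ext
    · simp [hpow, one_v]
    · simp [pow_c, hx, one_c]

/-- The element orders of `F ⋊ C`. -/
theorem range_orderOf (p : ℕ) [hp : Fact p.Prime] [CharP F p] :
    Set.range (orderOf : Aff F C → ℕ) = insert p (Set.range (orderOf : C → ℕ)) := by
  ext m
  constructor
  · rintro ⟨x, rfl⟩
    by_cases hx : x.c = 1
    · rw [orderOf_of_c_eq_one p hx]
      split_ifs
      · exact Or.inr ⟨1, orderOf_one⟩
      · exact Or.inl rfl
    · exact Or.inr ⟨x.c, (orderOf_of_c_ne_one hx).symm⟩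
  · rintro (rfl | ⟨c, rfl⟩)
    · exact ⟨⟨1, 1⟩, by rw [orderOf_of_c_eq_one m rfl]; simp⟩
    · by_cases hc : c = 1
      · exact ⟨1, by simp [hc]⟩
      · exact ⟨⟨0, c⟩, orderOf_of_c_ne_one hc⟩

/-- A nontrivial translation part is normal: the kernel of the projection. -/
theorem mem_ker_iff (p : ℕ) [hp : Fact p.Prime] [CharP F p] (hC : ∀ c : C, c ^ p = 1 → c = 1)
    (x : Aff F C) : x ∈ proj.ker ↔ x ^ p = 1 := by
  constructor
  · intro hx
    have h := orderOf_of_c_eq_one p (x := x) hx
    split_ifs at h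
    · rw [orderOf_eq_one_iff] at h; simp [h]
    · rw [← h, pow_orderOf_eq_one]
  · intro hx
    refine hC _ ?_
    rw [← map_pow, hx, map_one]

/-- A cyclic subgroup of the units with prescribed order. -/
theorem exists_subgroup_card [Finite F] (d : ℕ) (hd : d ∣ Nat.card F - 1) :
    ∃ C : Subgroup Fˣ, IsCyclic C ∧ Nat.card C = d := by
  obtain ⟨g, hg⟩ := IsCyclic.exists_ofOrder_eq_natCard (α := Fˣ)
  have hu : Nat.card Fˣ = Nat.card F - 1 := Nat.card_units F
  obtain ⟨k, hk⟩ := hd
  have hpos : 0 < Nat.card Fˣ := Nat.card_pos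
  refine ⟨Subgroup.zpowers (g ^ k), inferInstance, ?_⟩
  rw [Nat.card_zpowers, orderOf_pow, hg, hu, hk]
  have hk0 : 0 < k := Nat.pos_of_ne_zero fun h => by subst h; omega
  rw [Nat.gcd_eq_right (Dvd.intro_left d rfl), Nat.mul_div_cancel _ hk0]

/-- Frobenius group with element orders the divisors of `d`, and `p`. -/
theorem exists_frobenius (p : ℕ) [hp : Fact p.Prime] (d e : ℕ) (he : e ≠ 0) (hd : d ∣ p ^ e - 1) :
    ∃ (K : Type) (_ : Group K) (_ : Finite K),
      Set.range (orderOf : K → ℕ) = insert p {m | m ∣ d} ∧ p ^ e ≤ Nat.card K ∧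
      Group.IsSolvable K ∧ ∃ N : Subgroup K, N.Normal ∧ ∀ x, x ∈ N ↔ x ^ p = 1 := by
  have hcard : Nat.card (GaloisField p e) = p ^ e := GaloisField.card p e he
  have : Finite (GaloisField p e) := Nat.finite_of_card_ne_zero (by
    rw [hcard]; exact (pow_pos hp.out.pos e).ne')
  obtain ⟨C, hC, hcd⟩ := exists_subgroup_card (F := GaloisField p e) d (hcard.symm ▸ hd)
  have hd0 : 0 < d := hcd ▸ Nat.card_pos
  refine ⟨Aff (GaloisField p e) C, inferInstance, inferInstance, ?_, ?_, ?_, proj.ker, inferInstance,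
    fun x => mem_ker_iff p (fun c hc => ?_) x⟩
  · rw [range_orderOf p]
    congr 1
    ext m
    constructor
    · rintro ⟨c, rfl⟩; exact hcd ▸ orderOf_dvd_natCard c
    · intro hm
      obtain ⟨c, hc⟩ := IsCyclic.exists_ofOrder_eq_natCard (α := C)
      obtain ⟨k, hk⟩ := hm
      have hk0 : 0 < k := Nat.pos_of_ne_zero fun h => by subst h; omega
      exact ⟨c ^ k, by rw [orderOf_pow, hc, hcd, hk, Nat.gcd_eq_right (Dvd.intro_left m rfl),
        Nat.mul_div_cancel _ hk0]⟩
  · rw [card_eq, hcard]; exact Nat.le_mul_of_pos_right _ Nat.card_pos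
  · have hker : Group.IsSolvable (proj (C := C)).ker := by
      apply Group.isSolvable_of_comm
      intro x y
      have hx : (x : Aff (GaloisField p e) C).c = 1 := x.2
      have hy : (y : Aff (GaloisField p e) C).c = 1 := y.2
      refine Subtype.ext ?_
      change (x : Aff (GaloisField p e) C) * y = y * x
      ext
      · simp [mul_v, Aff.s, hx, hy, add_comm]
      · simp [mul_c, hx, hy]
    exact Group.isSolvable_of_ker_le_range (proj (C := C)).ker.subtype proj (by simp)
  · rw [← orderOf_eq_one_iff]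
    refine Nat.eq_one_of_dvd_one (Nat.dvd_trans (Nat.dvd_gcd (orderOf_dvd_of_pow_eq_one hc)
      (hcd ▸ orderOf_dvd_natCard c)) ?_)
    have h1 : Nat.Coprime p (p ^ e - 1) := by
      refine (Nat.Prime.coprime_iff_not_dvd hp.out).2 fun h => ?_
      have h2 : p ∣ p ^ e := dvd_pow_self p he
      have h3 := pow_pos hp.out.pos e
      have : p ∣ 1 := by
        have := Nat.dvd_sub h2 h
        rwa [Nat.sub_sub_self h3] at this
      exact hp.out.ne_one (Nat.dvd_one.1 this)
    exact dvd_of_eq (h1.coprime_dvd_right hd)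

end Cfsg.Agent.Lib.RecogThree.FieldFrobenius
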