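import Mathlib

/-! `7 × 7` matrices over `ZMod 11` packed into one natural number, with fast multiplication. -/

namespace Cfsg.Agent.Lib.RecogThree.PackedMat

/-- packing with 20-bit fields -/
def P (n : ℕ) (f : ℕ → ℕ) : ℕ := ∑ t ∈ Finset.range n, f t * 2 ^ (20 * t)

theorem P_lt {n : ℕ} {f : ℕ → ℕ} (hf : ∀ t < n, f t < 2 ^ 20) : P n f < 2 ^ (20 * n) := by
  induction n with
  | zero => simp [P]
  | succ n ih =>
    have h1 := ih fun t ht => hf t (by omega)
    have h2 : (f n + 1) * 2 ^ (20 * n) ≤ 2 ^ 20 * 2 ^ (20 * n) :=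
      Nat.mul_le_mul_right _ (hf n (by omega))
    rw [show 20 * (n + 1) = 20 + 20 * n by ring, pow_add]
    unfold P at h1 ⊢
    rw [Finset.sum_range_succ]
    rw [add_mul, one_mul] at h2
    omega

theorem testBit_P {n : ℕ} {f : ℕ → ℕ} (hf : ∀ t < n, f t < 2 ^ 20) (b : ℕ) :
    (P n f).testBit b = (decide (b < 20 * n) && (f (b / 20)).testBit (b % 20)) := by
  induction n with
  | zero => simp [P]
  | succ n ih =>
    have hlt := P_lt (n := n) fun t ht => hf t (by omega)
    have e : P (n + 1) f = 2 ^ (20 * n) * f n + P n f := by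
      rw [P, P, Finset.sum_range_succ]; ring
    rw [e, Nat.testBit_two_pow_mul_add _ hlt, ih fun t ht => hf t (by omega)]
    by_cases h : b < 20 * n
    · have : b < 20 * (n + 1) := by omega
      simp [h, this]
    · rw [if_neg h]
      by_cases h' : b < 20 * (n + 1)
      · simp only [h', decide_true, Bool.true_and]
        rw [show b / 20 = n by omega, show b % 20 = b - 20 * n by omega]
      · simp only [h', decide_false, Bool.false_and]
        exact Nat.testBit_lt_two_pow (lt_of_lt_of_le (hf n (by omega))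
          (Nat.pow_le_pow_right (by omega) (by omega)))

theorem P_congr {n : ℕ} {f g : ℕ → ℕ} (h : ∀ t < n, f t = g t) : P n f = P n g :=
  Finset.sum_congr rfl fun t ht => by rw [h t (Finset.mem_range.1 ht)]

theorem P_add (n : ℕ) (f g : ℕ → ℕ) : P n f + P n g = P n (fun t => f t + g t) := by
  simp [P, ← Finset.sum_add_distrib, add_mul]

theorem P_smul (n c : ℕ) (f : ℕ → ℕ) : P n f * c = P n (fun t => f t * c) := by
  simp [P, Finset.sum_mul]; exact Finset.sum_congr rfl fun t _ => by ring

/-- the field `t` -/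
def field (c t : ℕ) : ℕ := (c >>> (20 * t)) &&& 1048575

theorem field_P {n : ℕ} {f : ℕ → ℕ} (hf : ∀ t < n, f t < 2 ^ 20) {t : ℕ} (ht : t < n) :
    field (P n f) t = f t := by
  refine Nat.eq_of_testBit_eq fun b => ?_
  rw [field, show (1048575 : ℕ) = 2 ^ 20 - 1 from rfl, Nat.testBit_and, Nat.testBit_shiftRight,
    testBit_P hf, Nat.testBit_two_pow_sub_one]
  by_cases hb : b < 20
  · rw [show (20 * t + b) / 20 = t by omega, show (20 * t + b) % 20 = b by omega]
    simp [hb, show 20 * t + b < 20 * n by omega]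
  · simp [hb, Nat.testBit_lt_two_pow (lt_of_lt_of_le (hf t ht) (Nat.pow_le_pow_right (by omega) (not_lt.1 hb)))]

/-- fields `7 i` -/
def colMask : ℕ := P 49 (fun t => if t % 7 = 0 then 1048575 else 0)
/-- fields `j < 7` -/
def rowMask : ℕ := P 7 (fun _ => 1048575)
/-- seven low bits of each field -/
def lowMask : ℕ := P 49 (fun _ => 127)

theorem col_eq {f : ℕ → ℕ} (hf : ∀ t < 49, f t < 2 ^ 20) {k : ℕ} (hk : k < 7) :
    (P 49 f >>> (20 * k)) &&& colMask = P 49 (fun t => if t % 7 = 0 then f (t + k) else 0) := by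
  refine Nat.eq_of_testBit_eq fun b => ?_
  rw [colMask, Nat.testBit_and, Nat.testBit_shiftRight, testBit_P hf,
    testBit_P (fun t _ => by split_ifs <;> simp),
    testBit_P (fun t ht => by split_ifs with h <;> [exact hf _ (by omega); simp])]
  by_cases hb : b < 20 * 49
  · by_cases h0 : b / 20 % 7 = 0
    · rw [show (20 * k + b) / 20 = b / 20 + k by omega, show (20 * k + b) % 20 = b % 20 by omega]
      have : 20 * k + b < 20 * 49 := by omega
      rw [if_pos h0, if_pos h0, show (1048575 : ℕ) = 2 ^ 20 - 1 from rfl, Nat.testBit_two_pow_sub_one]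
      simp [hb, this, show b % 20 < 20 by omega]
    · simp [h0, hb]
  · simp [hb]

theorem row_eq {f : ℕ → ℕ} (hf : ∀ t < 49, f t < 2 ^ 20) {k : ℕ} (hk : k < 7) :
    (P 49 f >>> (20 * (7 * k))) &&& rowMask = P 7 (fun j => f (7 * k + j)) := by
  refine Nat.eq_of_testBit_eq fun b => ?_
  rw [rowMask, Nat.testBit_and, Nat.testBit_shiftRight, testBit_P hf,
    testBit_P (fun t _ => by simp), testBit_P (fun t ht => hf _ (by omega))]
  by_cases hb : b < 20 * 7
  · rw [show (20 * (7 * k) + b) / 20 = 7 * k + b / 20 by omega,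
      show (20 * (7 * k) + b) % 20 = b % 20 by omega,
      show (1048575 : ℕ) = 2 ^ 20 - 1 from rfl, Nat.testBit_two_pow_sub_one]
    simp [hb, show 20 * (7 * k) + b < 20 * 49 by omega, show b % 20 < 20 by omega]
  · simp [hb]

theorem colRow_eq (f g : ℕ → ℕ) (k : ℕ) :
    P 49 (fun t => if t % 7 = 0 then f (t + k) else 0) * P 7 (fun j => g (7 * k + j)) =
      P 49 (fun t => f (7 * (t / 7) + k) * g (7 * k + t % 7)) := by
  have e : P 49 (fun t => if t % 7 = 0 then f (t + k) else 0) =
      ∑ i ∈ Finset.range 7, f (7 * i + k) * 2 ^ (20 * (7 * i)) := by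
    simp [P, Finset.sum_range_succ]
  rw [e]
  simp only [P, pow_mul]
  generalize (2 : ℕ) ^ 20 = B
  simp only [Finset.sum_range_succ, Finset.sum_range_zero]
  norm_num
  ring

attribute [irreducible] P

/-- force evaluation -/
@[inline] def forceN {α : Type} (a : ℕ) (k : ℕ → α) : α :=
  match a with
  | 0 => k 0
  | n + 1 => k (n + 1)

theorem forceN_eq {α : Type} (a : ℕ) (k : ℕ → α) : forceN a k = k a := by cases a <;> rfl

/-- one term of the product -/
def term (a b k mc mr : ℕ) : ℕ :=
  ((a >>> (20 * k)) &&& mc) * ((b >>> (20 * (7 * k))) &&& mr)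

/-- reduction of every field modulo 11 -/
def reduce (x m : ℕ) : ℕ := forceN x fun x => x - 11 * (((x * 745) >>> 13) &&& m)

/-- product of packed matrices -/
def mul (a b : ℕ) : ℕ :=
  forceN a fun a => forceN b fun b => forceN colMask fun mc => forceN rowMask fun mr =>
    forceN lowMask fun m =>
      reduce (term a b 0 mc mr + term a b 1 mc mr + term a b 2 mc mr + term a b 3 mc mr +
        term a b 4 mc mr + term a b 5 mc mr + term a b 6 mc mr) m

theorem reduce_eq {f : ℕ → ℕ} (hf : ∀ t < 49, f t ≤ 700) :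
    reduce (P 49 f) lowMask = P 49 (fun t => f t % 11) := by
  have hq : ((P 49 f * 745) >>> 13) &&& lowMask = P 49 (fun t => f t / 11) := by
    refine Nat.eq_of_testBit_eq fun b => ?_
    have hb7 : ∀ t < 49, f t / 11 < 2 ^ 20 := fun t ht => by have := hf t ht; omega
    rw [P_smul, lowMask, Nat.testBit_and, Nat.testBit_shiftRight,
      testBit_P (fun t ht => by have := hf t ht; omega), testBit_P (fun t _ => by simp), testBit_P hb7]
    by_cases hb : b < 20 * 49
    · have hd := hf (b / 20) (by omega)
      rw [show (127 : ℕ) = 2 ^ 7 - 1 from rfl, Nat.testBit_two_pow_sub_one]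
      by_cases h7 : b % 20 < 7
      · rw [show (13 + b) / 20 = b / 20 by omega, show (13 + b) % 20 = 13 + b % 20 by omega,
          ← Nat.testBit_shiftRight, Nat.shiftRight_eq_div_pow,
          show f (b / 20) * 745 / 2 ^ 13 = f (b / 20) / 11 by omega]
        simp [hb, h7, show 13 + b < 20 * 49 by omega]
      · simp [h7, hb, Nat.testBit_lt_two_pow (lt_of_lt_of_le
          (show f (b / 20) / 11 < 2 ^ 7 by omega) (Nat.pow_le_pow_right (by omega) (not_lt.1 h7)))]
    · simp [hb]
  have hs : P 49 f = P 49 (fun t => f t % 11) + 11 * P 49 (fun t => f t / 11) := by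
    rw [mul_comm 11, P_smul, P_add]
    exact P_congr fun t _ => by omega
  rw [reduce, forceN_eq, hq]
  conv_lhs => arg 1; rw [hs]
  exact Nat.add_sub_cancel _ _

/-- the value -/
def val (c : ℕ) : Matrix (Fin 7) (Fin 7) (ZMod 11) :=
  Matrix.of fun i j => ((field c (7 * i.val + j.val) : ℕ) : ZMod 11)

/-- a well formed code -/
def Good (c : ℕ) : Prop := ∃ f : ℕ → ℕ, (∀ t, f t < 11) ∧ c = P 49 f

/-- test for well formed codes -/
def okC (c : ℕ) : Bool := Nat.beq (P 49 fun t => field c t % 11) c

theorem good_of_okC {c : ℕ} (h : okC c = true) : Good c := by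
  unfold okC at h
  refine ⟨fun t => field c t % 11, fun _ => Nat.mod_lt _ (by omega), ?_⟩
  revert h
  generalize P 49 (fun t => field c t % 11) = e
  exact fun h => (Nat.eq_of_beq_eq_true h).symm

theorem mul_spec {a b : ℕ} (ha : Good a) (hb : Good b) :
    Good (mul a b) ∧ val (mul a b) = val a * val b := by
  obtain ⟨f, hf, rfl⟩ := ha
  obtain ⟨g, hg, rfl⟩ := hb
  have hf' : ∀ t < 49, f t < 2 ^ 20 := fun t _ => by have := hf t; omega
  have hg' : ∀ t < 49, g t < 2 ^ 20 := fun t _ => by have := hg t; omega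
  have ht : ∀ k < 7, term (P 49 f) (P 49 g) k colMask rowMask =
      P 49 (fun t => f (7 * (t / 7) + k) * g (7 * k + t % 7)) := fun k hk => by
    rw [term, col_eq hf' hk, row_eq hg' hk, colRow_eq f g k]
  let h : ℕ → ℕ := fun t => ∑ k ∈ Finset.range 7, f (7 * (t / 7) + k) * g (7 * k + t % 7)
  have hb700 : ∀ t < 49, h t ≤ 700 := by
    intro t _
    refine le_trans (Finset.sum_le_sum (g := fun _ => 100) fun k _ => ?_) (by simp)
    exact le_trans (Nat.mul_le_mul (Nat.le_of_lt_succ (hf _)) (Nat.le_of_lt_succ (hg _))) (by norm_num)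
  have hm : mul (P 49 f) (P 49 g) = P 49 (fun t => h t % 11) := by
    rw [← reduce_eq hb700]
    simp only [mul, forceN_eq]
    congr 1
    rw [ht 0 (by omega), ht 1 (by omega), ht 2 (by omega), ht 3 (by omega), ht 4 (by omega),
      ht 5 (by omega), ht 6 (by omega)]
    simp only [P_add]
    exact P_congr fun t _ => by simp [h, Finset.sum_range_succ]
  refine ⟨⟨_, fun t => Nat.mod_lt _ (by omega), hm⟩, ?_⟩
  ext i j
  have hi := i.isLt
  have hj := j.isLt
  rw [Matrix.mul_apply, val, Matrix.of_apply, hm,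
    field_P (fun t _ => lt_trans (Nat.mod_lt _ (by omega)) (by norm_num)) (by omega)]
  simp only [ZMod.natCast_mod, h, Nat.cast_sum, Nat.cast_mul]
  rw [← Fin.sum_univ_eq_sum_range (fun k => (f (7 * ((7 * i.val + j.val) / 7) + k) : ZMod 11) *
    (g (7 * k + (7 * i.val + j.val) % 7) : ZMod 11)) 7]
  refine Finset.sum_congr rfl fun k _ => ?_
  have hk := k.isLt
  rw [val, val, Matrix.of_apply, Matrix.of_apply, field_P hf' (by omega), field_P hg' (by omega),
    show (7 * i.val + j.val) / 7 = i.val by omega, show (7 * i.val + j.val) % 7 = j.val by omega]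

theorem good_mul {a b : ℕ} (ha : Good a) (hb : Good b) : Good (mul a b) := (mul_spec ha hb).1

theorem val_mul {a b : ℕ} (ha : Good a) (hb : Good b) : val (mul a b) = val a * val b :=
  (mul_spec ha hb).2

theorem val_inj {a b : ℕ} (ha : Good a) (hb : Good b) (h : val a = val b) : a = b := by
  obtain ⟨f, hf, rfl⟩ := ha
  obtain ⟨g, hg, rfl⟩ := hb
  refine P_congr fun t ht => ?_
  have h' := congrFun (congrFun h ⟨t / 7, by omega⟩) ⟨t % 7, by omega⟩
  simp only [val, Matrix.of_apply, show 7 * (t / 7) + t % 7 = t by omega] at h'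
  rw [field_P (fun s _ => lt_trans (hf s) (by norm_num)) ht,
    field_P (fun s _ => lt_trans (hg s) (by norm_num)) ht] at h'
  have := congrArg ZMod.val h'
  rwa [ZMod.val_natCast_of_lt (hf t), ZMod.val_natCast_of_lt (hg t)] at this

/-- a binary tree of codes addressed by index -/
inductive Tree where
  | leaf (c : ℕ)
  | node (n : ℕ) (l r : Tree)

/-- all codes in the tree -/
def Tree.toList : Tree → List ℕ
  | .leaf c => [c]
  | .node _ l r => l.toList ++ r.toList

/-- the code with index `i`; `n` is the size of the left part -/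
def Tree.get : Tree → ℕ → ℕ
  | .leaf c, _ => c
  | .node n l r, i => bif Nat.blt i n then l.get i else r.get (i - n)

theorem Tree.get_mem (t : Tree) : ∀ i, t.get i ∈ t.toList := by
  induction t with
  | leaf c => intro i; simp [Tree.get, Tree.toList]
  | node n l r ihl ihr =>
    intro i
    simp only [Tree.get, Tree.toList, List.mem_append]
    cases Nat.blt i n
    · exact Or.inr (ihr _)
    · exact Or.inl (ihl _)

/-- check a property along two lists -/
def allZip {α β : Type} (f : α → β → Bool) : List α → List β → Bool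
  | [], [] => true
  | a :: as, b :: bs => f a b && allZip f as bs
  | _, _ => false

theorem allZip_spec {α β : Type} {f : α → β → Bool} : ∀ {as : List α} {bs : List β},
    allZip f as bs = true → ∀ a ∈ as, ∃ b ∈ bs, f a b = true := by
  intro as
  induction as with
  | nil => intro _ _ a ha; simp at ha
  | cons x xs ih =>
    intro bs h a ha
    cases bs with
    | nil => simp [allZip] at h
    | cons y ys =>
      simp only [allZip, Bool.and_eq_true] at h
      rcases List.mem_cons.1 ha with rfl | ha
      · exact ⟨y, List.mem_cons_self .., h.1⟩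
      · obtain ⟨b, hb, hb'⟩ := ih h.2 a ha
        exact ⟨b, List.mem_cons_of_mem _ hb, hb'⟩

end Cfsg.Agent.Lib.RecogThree.PackedMat
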