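import Cfsg.Prelude.Def_Spor_J1
import Cfsg.Agent.Lib.RecogThree.PackedMat
import Cfsg.Agent.Lib.RecogThree.J1Data

/-! Element orders of the Janko group `J1` from a coset certificate. -/

namespace Cfsg.Agent.Lib.RecogThree.J1Orders

open PackedMat J1Data

set_option maxRecDepth 40000

local notation "M7" => Matrix (Fin 7) (Fin 7) (ZMod 11)

/-- evaluate a word in `genA`, `genB` -/
def evalL (w : List Bool) : ℕ := w.foldr (fun s acc => mul (bif s then genB else genA) acc) matI
/-- evaluate a word in `matX`, `matY` -/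
def evalG (w : List Bool) : ℕ := w.foldr (fun s acc => mul (bif s then matY else matX) acc) matI

/-- some power in the list is trivial -/
def goodOrd (g : ℕ) : Bool :=
  forceN g fun g => forceN (mul g g) fun g2 => forceN (mul g2 g) fun g3 => forceN (mul g3 g3) fun g6 =>
    Nat.beq g6 matI || forceN (mul g6 g) fun g7 =>
    Nat.beq g7 matI || forceN (mul g7 g3) fun g10 =>
    Nat.beq g10 matI || forceN (mul g10 g) fun g11 =>
    Nat.beq g11 matI || forceN (mul g2 g2) fun g4 => forceN (mul g11 g4) fun g15 =>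
    Nat.beq g15 matI || Nat.beq (mul g15 g4) matI

theorem gens_check :
    (okC matX && okC matY && okC matI && okC genA && okC genB && treeU.toList.all okC
      && reps.all okC && Nat.beq (mul genA genA) matI && Nat.beq (mul genB (mul genB genB)) matI
      && treeU.toList.any (Nat.beq matI) && treeL.toList.any (Nat.beq matI)) = true := by
  decide +kernel

theorem words_check : allZip (fun l w => Nat.beq (evalL w) l) treeL.toList wordsL = true := by
  decide +kernel

theorem closed_check :
    allZip (fun l p => Nat.beq (mul genA l) (treeL.get p.1) && Nat.beq (mul genB l) (treeL.get p.2))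
      treeL.toList closeL = true := by
  decide +kernel

theorem stepX_check :
    allZip (fun u p => Nat.beq (mul matX u) (mul (treeU.get p.1) (treeL.get p.2)))
      treeU.toList stepX = true := by
  decide +kernel

theorem stepY_check :
    allZip (fun u p => Nat.beq (mul matY u) (mul (treeU.get p.1) (treeL.get p.2)))
      treeU.toList stepY = true := by
  decide +kernel

theorem decomp_check :
    allZip (fun u p => Nat.blt p.2.1 5 &&
        Nat.beq u (mul (mul (treeL.get p.1) (reps.getD p.2.1 0)) (treeL.get p.2.2)))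
      treeU.toList decomp = true := by
  decide +kernel

theorem order_check0 : treeL.toList.all (fun l => goodOrd (mul (reps.getD 0 0) l)) = true := by
  decide +kernel
theorem order_check1 : treeL.toList.all (fun l => goodOrd (mul (reps.getD 1 0) l)) = true := by
  decide +kernel
theorem order_check2 : treeL.toList.all (fun l => goodOrd (mul (reps.getD 2 0) l)) = true := by
  decide +kernel
theorem order_check3 : treeL.toList.all (fun l => goodOrd (mul (reps.getD 3 0) l)) = true := by
  decide +kernel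
theorem order_check4 : treeL.toList.all (fun l => goodOrd (mul (reps.getD 4 0) l)) = true := by
  decide +kernel

theorem order_check (i : ℕ) (hi : i < 5) :
    treeL.toList.all (fun l => goodOrd (mul (reps.getD i 0) l)) = true := by
  interval_cases i
  · exact order_check0
  · exact order_check1
  · exact order_check2
  · exact order_check3
  · exact order_check4

theorem gens_facts :
    Good matX ∧ Good matY ∧ Good matI ∧ Good genA ∧ Good genB ∧
      (∀ u ∈ treeU.toList, Good u) ∧ (∀ i < 5, Good (reps.getD i 0)) ∧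
      mul genA genA = matI ∧ mul genB (mul genB genB) = matI ∧
      matI ∈ treeU.toList ∧ matI ∈ treeL.toList := by
  have h := gens_check
  simp only [Bool.and_eq_true, List.all_eq_true, List.any_eq_true] at h
  obtain ⟨⟨⟨⟨⟨⟨⟨⟨⟨⟨h1, h2⟩, h3⟩, h4⟩, h5⟩, h6⟩, h7⟩, h8⟩, h9⟩, u, hu, hu'⟩, l, hl, hl'⟩ := h
  refine ⟨good_of_okC h1, good_of_okC h2, good_of_okC h3, good_of_okC h4, good_of_okC h5,
    fun u hu => good_of_okC (h6 u hu), fun i hi => ?_, Nat.eq_of_beq_eq_true h8,
    Nat.eq_of_beq_eq_true h9, ?_, ?_⟩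
  · refine good_of_okC (h7 _ ?_)
    rw [List.getD_eq_getElem _ _ (show i < reps.length from hi)]
    exact List.getElem_mem _
  · rw [Nat.eq_of_beq_eq_true hu']; exact hu
  · rw [Nat.eq_of_beq_eq_true hl']; exact hl

theorem val_I : val matI = 1 := by decide +kernel

theorem val_X : val matX = Cfsg.jankoMatrixX := by decide +kernel

theorem val_Y : val matY = Cfsg.jankoMatrixY := by decide +kernel

theorem evalL_good (w : List Bool) : Good (evalL w) := by
  induction w with
  | nil => exact gens_facts.2.2.1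
  | cons s w ih =>
    cases s
    · exact good_mul gens_facts.2.2.2.1 ih
    · exact good_mul gens_facts.2.2.2.2.1 ih

theorem mem_L_eval {l : ℕ} (hl : l ∈ treeL.toList) : ∃ w, evalL w = l := by
  obtain ⟨w, -, h⟩ := allZip_spec words_check l hl
  exact ⟨w, Nat.eq_of_beq_eq_true h⟩

theorem good_L {l : ℕ} (hl : l ∈ treeL.toList) : Good l := by
  obtain ⟨w, rfl⟩ := mem_L_eval hl
  exact evalL_good w

theorem good_treeL (i : ℕ) : Good (treeL.get i) := good_L (Tree.get_mem _ i)

/-- values of the subgroup table -/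
def SL : Set (Matrix (Fin 7) (Fin 7) (ZMod 11)) := val '' {l | l ∈ treeL.toList}

theorem eval_mul_mem (w : List Bool) : ∀ m ∈ SL, val (evalL w) * m ∈ SL := by
  induction w with
  | nil => intro m hm; rw [show evalL [] = matI from rfl, val_I, one_mul]; exact hm
  | cons s w ih =>
    intro m hm
    obtain ⟨l, hl, he⟩ := ih m hm
    obtain ⟨p, -, hp⟩ := allZip_spec closed_check l hl
    simp only [Bool.and_eq_true] at hp
    cases s
    · rw [show evalL (false :: w) = mul genA (evalL w) from rfl,
        val_mul gens_facts.2.2.2.1 (evalL_good w), mul_assoc, ← he,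
        ← val_mul gens_facts.2.2.2.1 (good_L hl), Nat.eq_of_beq_eq_true hp.1]
      exact ⟨_, Tree.get_mem _ _, rfl⟩
    · rw [show evalL (true :: w) = mul genB (evalL w) from rfl,
        val_mul gens_facts.2.2.2.2.1 (evalL_good w), mul_assoc, ← he,
        ← val_mul gens_facts.2.2.2.2.1 (good_L hl), Nat.eq_of_beq_eq_true hp.2]
      exact ⟨_, Tree.get_mem _ _, rfl⟩

theorem SL_mul {a b : M7} (ha : a ∈ SL) (hb : b ∈ SL) : a * b ∈ SL := by
  obtain ⟨l, hl, rfl⟩ := ha
  obtain ⟨w, rfl⟩ := mem_L_eval hl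
  exact eval_mul_mem w b hb

theorem isUnit_L {l : ℕ} (hl : l ∈ treeL.toList) : IsUnit (val l) := by
  obtain ⟨-, -, -, ha, hb, -, -, h2, h3, -, -⟩ := gens_facts
  have hA : IsUnit (val genA) := by
    refine IsUnit.of_mul_eq_one (val genA) ?_
    rw [← val_mul ha ha, h2, val_I]
  have hB : IsUnit (val genB) := by
    refine IsUnit.of_mul_eq_one (val (mul genB genB)) ?_
    rw [← val_mul hb (good_mul hb hb), h3, val_I]
  obtain ⟨w, rfl⟩ := mem_L_eval hl
  clear hl
  induction w with
  | nil => rw [show evalL [] = matI from rfl, val_I]; exact isUnit_one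
  | cons s w ih =>
    cases s
    · rw [show evalL (false :: w) = mul genA (evalL w) from rfl, val_mul ha (evalL_good w)]
      exact hA.mul ih
    · rw [show evalL (true :: w) = mul genB (evalL w) from rfl, val_mul hb (evalL_good w)]
      exact hB.mul ih

theorem goodOrd_spec {g : ℕ} (hg : Good g) (h : goodOrd g = true) :
    ∃ e ∈ ([6, 7, 10, 11, 15, 19] : List ℕ), val g ^ e = 1 := by
  simp only [goodOrd, forceN_eq, Bool.or_eq_true] at h
  have hI : ∀ c, Nat.beq c matI = true → val c = 1 := fun c hc => by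
    rw [Nat.eq_of_beq_eq_true hc, val_I]
  have g2 := good_mul hg hg
  have g3 := good_mul g2 hg
  have g6 := good_mul g3 g3
  have g7 := good_mul g6 hg
  have g10 := good_mul g7 g3
  have g11 := good_mul g10 hg
  have g4 := good_mul g2 g2
  have g15 := good_mul g11 g4
  have e2 : val (mul g g) = val g ^ 2 := by rw [val_mul hg hg, sq]
  have e3 : val (mul (mul g g) g) = val g ^ 3 := by rw [val_mul g2 hg, e2, ← pow_succ]
  have e4 : val (mul (mul g g) (mul g g)) = val g ^ 4 := by rw [val_mul g2 g2, e2, ← pow_add]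
  rcases h with h | h | h | h | h | h <;> have h' := hI _ h
  · exact ⟨6, by simp, by rwa [val_mul g3 g3, e3, ← pow_add] at h'⟩
  · exact ⟨7, by simp, by rwa [val_mul g6 hg, val_mul g3 g3, e3, ← pow_add, ← pow_succ] at h'⟩
  · exact ⟨10, by simp, by
      rwa [val_mul g7 g3, val_mul g6 hg, val_mul g3 g3, e3, ← pow_add, ← pow_succ, ← pow_add] at h'⟩
  · exact ⟨11, by simp, by
      rwa [val_mul g10 hg, val_mul g7 g3, val_mul g6 hg, val_mul g3 g3, e3, ← pow_add, ← pow_succ,
        ← pow_add, ← pow_succ] at h'⟩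
  · exact ⟨15, by simp, by
      rwa [val_mul g11 g4, e4, val_mul g10 hg, val_mul g7 g3, val_mul g6 hg, val_mul g3 g3, e3,
        ← pow_add, ← pow_succ, ← pow_add, ← pow_succ, ← pow_add] at h'⟩
  · exact ⟨19, by simp, by
      rwa [val_mul g15 g4, val_mul g11 g4, e4, val_mul g10 hg, val_mul g7 g3, val_mul g6 hg,
        val_mul g3 g3, e3, ← pow_add, ← pow_succ, ← pow_add, ← pow_succ, ← pow_add, ← pow_add] at h'⟩

/-- the elements `u * l` -/
def SS : Set (Matrix (Fin 7) (Fin 7) (ZMod 11)) :=
  {m | ∃ u ∈ treeU.toList, ∃ l ∈ SL, m = val u * l}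

theorem one_mem_SS : (1 : M7) ∈ SS :=
  ⟨matI, gens_facts.2.2.2.2.2.2.2.2.2.1, 1,
    ⟨matI, gens_facts.2.2.2.2.2.2.2.2.2.2, val_I⟩, by rw [val_I, one_mul]⟩

theorem gen_mul_mem {c : ℕ} (hc : Good c) {st : List (ℕ × ℕ)}
    (hst : allZip (fun u p => Nat.beq (mul c u) (mul (treeU.get p.1) (treeL.get p.2)))
      treeU.toList st = true) {m : M7} (hm : m ∈ SS) : val c * m ∈ SS := by
  obtain ⟨u, hu, l, hl, rfl⟩ := hm
  obtain ⟨p, -, hp⟩ := allZip_spec hst u hu
  have hU := gens_facts.2.2.2.2.2.1
  rw [← mul_assoc, ← val_mul hc (hU u hu), Nat.eq_of_beq_eq_true hp,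
    val_mul (hU _ (Tree.get_mem _ _)) (good_treeL _), mul_assoc]
  exact ⟨_, Tree.get_mem _ _, _, SL_mul ⟨_, Tree.get_mem _ _, rfl⟩ hl, rfl⟩

theorem mem_SS (g : ↥Cfsg.Spor.J1) :
    ((g : GL (Fin 7) (ZMod 11)) : M7) ∈ SS := by
  have key : ∀ h : GL (Fin 7) (ZMod 11), h ∈ Cfsg.Spor.J1 → ∀ m ∈ SS,
      (h : M7) * m ∈ SS := by
    intro h hh
    induction hh using Subgroup.closure_induction with
    | mem x hx =>
      rcases hx with rfl | rfl
      · intro m hm
        rw [show ((Cfsg.Spor.jankoX : GL (Fin 7) (ZMod 11)) : M7) = val matX from val_X.symm]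
        exact gen_mul_mem gens_facts.1 stepX_check hm
      · intro m hm
        rw [show ((Cfsg.Spor.jankoY : GL (Fin 7) (ZMod 11)) : M7) = val matY from val_Y.symm]
        exact gen_mul_mem gens_facts.2.1 stepY_check hm
    | one => intro m hm; rwa [Units.val_one, one_mul]
    | mul a b _ _ ha hb => intro m hm; rw [Units.val_mul, mul_assoc]; exact ha _ (hb _ hm)
    | inv a _ ha =>
      intro m hm
      have hinv : a⁻¹ = a ^ (orderOf a - 1) := by
        refine inv_eq_of_mul_eq_one_right ?_
        rw [← pow_succ', Nat.sub_add_cancel (orderOf_pos a), pow_orderOf_eq_one]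
      rw [hinv]
      generalize orderOf a - 1 = k
      induction k with
      | zero => rwa [pow_zero, Units.val_one, one_mul]
      | succ k ih => rw [pow_succ', Units.val_mul, mul_assoc]; exact ha _ ih
  simpa using key g g.2 1 one_mem_SS

theorem exists_exponent (g : ↥Cfsg.Spor.J1) :
    ∃ e ∈ ([6, 7, 10, 11, 15, 19] : List ℕ), orderOf g ∣ e := by
  obtain ⟨u, hu, lv, ⟨l, hl, hlv⟩, hgm⟩ := mem_SS g
  obtain ⟨p, -, hp⟩ := allZip_spec decomp_check u hu
  simp only [Bool.and_eq_true, Nat.blt, Nat.ble_eq] at hp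
  obtain ⟨hi, hu'⟩ := hp
  have hu' := Nat.eq_of_beq_eq_true hu'
  have hrep := gens_facts.2.2.2.2.2.2.1 p.2.1 hi
  obtain ⟨l', hl', hl'v⟩ := SL_mul (SL_mul ⟨_, Tree.get_mem treeL p.2.2, rfl⟩ ⟨l, hl, rfl⟩)
    ⟨_, Tree.get_mem treeL p.1, rfl⟩
  have hl₁ := isUnit_L (Tree.get_mem treeL p.1)
  have hord := order_check p.2.1 hi
  simp only [List.all_eq_true] at hord
  obtain ⟨e, he, hpow⟩ := goodOrd_spec (good_mul hrep (good_L hl')) (hord l' hl')
  refine ⟨e, he, orderOf_dvd_of_pow_eq_one ?_⟩
  rw [val_mul hrep (good_L hl'), hl'v] at hpow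
  have hval : ((g : GL (Fin 7) (ZMod 11)) : M7) =
      val (treeL.get p.1) * (val (reps.getD p.2.1 0) * (val (treeL.get p.2.2) * val l)) := by
    rw [hgm, ← hlv, hu', val_mul (good_mul (good_treeL _) hrep) (good_treeL _),
      val_mul (good_treeL _) hrep]
    simp only [mul_assoc]
  have hsemi : SemiconjBy (val (treeL.get p.1))
      (val (reps.getD p.2.1 0) * (val (treeL.get p.2.2) * val l * val (treeL.get p.1)))
      ((g : GL (Fin 7) (ZMod 11)) : M7) := by
    rw [SemiconjBy, hval]; simp only [mul_assoc]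
  have h := hsemi.pow_right e
  rw [hpow, SemiconjBy, mul_one] at h
  apply Subtype.ext
  apply Units.ext
  rw [SubmonoidClass.coe_pow, Units.val_pow_eq_pow_val, OneMemClass.coe_one, Units.val_one]
  obtain ⟨v, hv⟩ := hl₁
  rw [← hv] at h
  exact (Units.mul_left_inj v).1 (by rw [one_mul]; exact h.symm)

/-- all six maximal orders occur -/
theorem wits_check :
    wits.all (fun p => forceN (evalG p.2) fun g =>
      (List.range p.1).all (fun k => Nat.beq k 0 ||
        !(Nat.beq (Nat.rec matI (fun _ acc => mul g acc) k) matI)) &&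
      Nat.beq (Nat.rec matI (fun _ acc => mul g acc) p.1) matI) = true := by
  decide +kernel

theorem exists_orderOf (e : ℕ) (he : e ∈ ([6, 7, 10, 11, 15, 19] : List ℕ)) :
    ∃ g : ↥Cfsg.Spor.J1, orderOf g = e := by
  have hmem : e ∈ wits.map Prod.fst := by
    fin_cases he <;> decide
  obtain ⟨⟨e, w⟩, hw, rfl⟩ := List.mem_map.1 hmem
  obtain ⟨gx, gy, gI, -⟩ := gens_facts
  have hgen : ∀ w : List Bool, Good (evalG w) ∧
      ∃ g : ↥Cfsg.Spor.J1, ((g : GL (Fin 7) (ZMod 11)) : M7) = val (evalG w) := by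
    intro w
    induction w with
    | nil => exact ⟨gI, 1, by simp [show evalG [] = matI from rfl, val_I]⟩
    | cons s w ih =>
      obtain ⟨hgw, g, hg⟩ := ih
      cases s
      · refine ⟨good_mul gx hgw,
          ⟨Cfsg.Spor.jankoX, Subgroup.subset_closure (Set.mem_insert _ _)⟩ * g, ?_⟩
        rw [show evalG (false :: w) = mul matX (evalG w) from rfl, val_mul gx hgw,
          Subgroup.coe_mul, Units.val_mul, hg, val_X]
        rfl
      · refine ⟨good_mul gy hgw,
          ⟨Cfsg.Spor.jankoY, Subgroup.subset_closure (Set.mem_insert_of_mem _ rfl)⟩ * g, ?_⟩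
        rw [show evalG (true :: w) = mul matY (evalG w) from rfl, val_mul gy hgw,
          Subgroup.coe_mul, Units.val_mul, hg, val_Y]
        rfl
  obtain ⟨hgood, g, hg⟩ := hgen w
  have hc := wits_check
  simp only [List.all_eq_true, forceN_eq, Bool.and_eq_true, List.mem_range, Bool.or_eq_true,
    Bool.not_eq_true'] at hc
  obtain ⟨hmin, htop⟩ := hc _ hw
  have hpow : ∀ k, Good (Nat.rec matI (fun _ acc => mul (evalG w) acc) k) ∧
      val (Nat.rec matI (fun _ acc => mul (evalG w) acc) k) = val (evalG w) ^ k := by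
    intro k
    induction k with
    | zero => exact ⟨gI, by rw [pow_zero]; exact val_I⟩
    | succ k ih => exact ⟨good_mul hgood ih.1, by rw [pow_succ', ← ih.2]; exact val_mul hgood ih.1⟩
  have hcoe : ∀ k, ((((g ^ k : ↥Cfsg.Spor.J1)) : GL (Fin 7) (ZMod 11)) : M7) =
      val (Nat.rec matI (fun _ acc => mul (evalG w) acc) k) := fun k => by
    rw [SubmonoidClass.coe_pow, Units.val_pow_eq_pow_val, hg, (hpow k).2]
  have hepos : 0 < e := by
    have : ∀ q ∈ wits, 0 < q.1 := by decide
    exact this _ hw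
  refine ⟨g, (orderOf_eq_iff hepos).2 ⟨?_, fun k hk hk0 hk1 => ?_⟩⟩
  · apply Subtype.ext; apply Units.ext
    rw [hcoe, Nat.eq_of_beq_eq_true htop, val_I]; rfl
  · have hne := (hmin k hk).resolve_left (fun h => hk0.ne' (Nat.eq_of_beq_eq_true h))
    have h1 := hcoe k
    rw [hk1] at h1
    refine absurd ?_ (Bool.not_eq_true _ ▸ hne : ¬ Nat.beq _ matI = true)
    have hv : val (Nat.rec matI (fun _ acc => mul (evalG w) acc) k) = val matI := by
      rw [← h1, val_I]; rfl
    rw [show Nat.rec matI (fun _ acc => mul (evalG w) acc) k = matI from val_inj (hpow k).1 gens_facts.2.2.1 hv]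
    exact Nat.beq_refl _

end Cfsg.Agent.Lib.RecogThree.J1Orders
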