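import Mathlib

/-! Marggraf's theorem, part 1: counting the translates of a subset containing and avoiding given
points in a multiply transitive action. -/

set_option autoImplicit false
set_option linter.unusedSectionVars false

namespace Cfsg.Agent.Lib.RecogThree.Marggraf

open MulAction

theorem choose_lt {N i k : ℕ} (h1 : i < k) (h2 : i + k < N) (h3 : k ≤ N) :
    N.choose i < N.choose k := by
  have key : ∀ r, r + 1 + r < N → N.choose r < N.choose (r + 1) := by
    intro r hr
    have h := Nat.choose_succ_right_eq N r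
    have hpos : 0 < N.choose r := Nat.choose_pos (by omega)
    by_contra hle
    push Not at hle
    have : N.choose (r + 1) * (r + 1) < N.choose r * (N - r) :=
      lt_of_le_of_lt (Nat.mul_le_mul_right _ hle) (Nat.mul_lt_mul_of_pos_left (by omega) hpos)
    omega
  have mono : ∀ d i, i + (i + d + 1) < N + 1 → 2 * (i + d + 1) ≤ N →
      N.choose i < N.choose (i + d + 1) := by
    intro d
    induction d with
    | zero => intro i _ h; exact key i (by omega)
    | succ d ih =>
      intro i _ h
      exact (ih i (by omega) (by omega)).trans (key (i + d + 1) (by omega))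
  rcases Nat.lt_or_ge N (2 * k) with hk | hk
  · have := mono (N - k - i - 1) i (by omega) (by omega)
    rw [show i + (N - k - i - 1) + 1 = N - k by omega, Nat.choose_symm h3] at this
    exact this
  · have := mono (k - i - 1) i (by omega) (by omega)
    rwa [show i + (k - i - 1) + 1 = k by omega] at this

variable {G Ω : Type*} [Group G] [MulAction G Ω] [Finite Ω]

theorem exists_map_finset {k : ℕ} (hk : IsMultiplyPretransitive G Ω k) (hkn : k ≤ Nat.card Ω)
    {I J : Finset Ω} (hIJ : I.card = J.card) (hI : I.card ≤ k) :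
    ∃ g : G, ∀ x ∈ I, g • x ∈ J := by
  have := isMultiplyPretransitive_of_le (G := G) (α := Ω) hI hkn
  let eI : Fin I.card ↪ Ω := I.equivFin.symm.toEmbedding.trans (Function.Embedding.subtype _)
  let eJ : Fin I.card ↪ Ω :=
    (finCongr hIJ).toEmbedding.trans (J.equivFin.symm.toEmbedding.trans (Function.Embedding.subtype _))
  obtain ⟨g, hg⟩ := exists_smul_eq G eI eJ
  refine ⟨g, fun x hx => ?_⟩
  have := DFunLike.congr_fun hg (I.equivFin ⟨x, hx⟩)
  have e1 : eI (I.equivFin ⟨x, hx⟩) = x := by simp [eI]
  rw [Function.Embedding.smul_apply, e1] at this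
  rw [this]
  exact (J.equivFin.symm _).2

variable [Fintype G] [DecidableEq Ω] (G) (Γ : Finset Ω)

/-- number of group elements moving `Γ` to a set containing `I` and avoiding `O` -/
def W (I O : Finset Ω) : ℕ :=
  (Finset.univ.filter fun g : G => (∀ x ∈ I, g⁻¹ • x ∈ Γ) ∧ ∀ x ∈ O, g⁻¹ • x ∉ Γ).card

theorem W_split (I O : Finset Ω) (x : Ω) :
    W G Γ I O = W G Γ (insert x I) O + W G Γ I (insert x O) := by
  classical
  unfold W
  rw [← Finset.card_union_of_disjoint]
  · congr 1
    ext g
    by_cases hx : g⁻¹ • x ∈ Γ <;> simp [hx]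
  · rw [Finset.disjoint_left]
    intro g h1 h2
    simp only [Finset.mem_filter, Finset.forall_mem_insert] at h1 h2
    exact h2.2.2.1 h1.2.1.1

theorem W_exists {I O : Finset Ω} (h : 0 < W G Γ I O) :
    ∃ g : G, (∀ x ∈ I, g⁻¹ • x ∈ Γ) ∧ ∀ x ∈ O, g⁻¹ • x ∉ Γ := by
  obtain ⟨g, hg⟩ := Finset.card_pos.1 h
  exact ⟨g, (Finset.mem_filter.1 hg).2⟩

theorem W_eq_zero {I O : Finset Ω}
    (h : ∀ g : G, (∀ x ∈ I, g⁻¹ • x ∈ Γ) → (∀ x ∈ O, g⁻¹ • x ∉ Γ) → False) : W G Γ I O = 0 := by
  rw [W, Finset.card_eq_zero, Finset.filter_eq_empty_iff]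
  exact fun g _ hg => h g hg.1 hg.2

theorem W_eq_zero_of_card {I O : Finset Ω} (h : Γ.card < I.card) : W G Γ I O = 0 := by
  refine W_eq_zero G Γ fun g hI _ => ?_
  have := Finset.card_le_card_of_injOn (fun x => g⁻¹ • x) (fun x hx => hI x hx)
    (fun a _ b _ e => MulAction.injective g⁻¹ e)
  omega

theorem W_perm_invariant {k : ℕ} (hk : IsMultiplyPretransitive G Ω k) (hkn : k ≤ Nat.card Ω)
    {I J : Finset Ω} (hIJ : I.card = J.card) (hI : I.card ≤ k) : W G Γ I ∅ = W G Γ J ∅ := by
  obtain ⟨h, hh⟩ := exists_map_finset hk hkn hIJ hI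
  have himg : I.image (fun x => h • x) = J :=
    Finset.eq_of_subset_of_card_le (fun y hy => by
      obtain ⟨x, hx, rfl⟩ := Finset.mem_image.1 hy
      exact hh x hx) (by rw [Finset.card_image_of_injective _ (MulAction.injective h)]; omega)
  unfold W
  refine Finset.card_equiv (Equiv.mulLeft h) fun g => ?_
  simp only [Finset.mem_filter, Finset.mem_univ, true_and, Finset.notMem_empty, IsEmpty.forall_iff,
    implies_true, and_true, Equiv.coe_mulLeft, mul_inv_rev, mul_smul, ← himg, Finset.forall_mem_image,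
    inv_smul_smul]

theorem W_base {k : ℕ} (hk : IsMultiplyPretransitive G Ω k) (hkn : k ≤ Nat.card Ω)
    {I : Finset Ω} (hI : I.card ≤ k) (hIm : I.card ≤ Γ.card) :
    W G Γ I ∅ * (Nat.card Ω).choose Γ.card =
      Nat.card G * (Nat.card Ω - I.card).choose (Γ.card - I.card) := by
  classical
  have := Fintype.ofFinite Ω
  set i := I.card
  set S : Finset (Finset Ω) := Finset.univ.powersetCard i
  have hsum : ∑ J ∈ S, W G Γ J ∅ = Nat.card G * Γ.card.choose i := by
    unfold W
    simp only [Finset.card_filter]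
    rw [Finset.sum_comm, Nat.card_eq_fintype_card, ← Finset.card_univ, ← smul_eq_mul,
      ← Finset.sum_const]
    refine Finset.sum_congr rfl fun g _ => ?_
    have himg : (Γ.image fun x => g • x).card = Γ.card :=
      Finset.card_image_of_injective _ (MulAction.injective g)
    have key : (S.filter fun J => ∀ x ∈ J, g⁻¹ • x ∈ Γ).card = Γ.card.choose i := by
      rw [← himg, ← Finset.card_powersetCard]
      congr 1
      ext J
      simp only [S, Finset.mem_filter, Finset.mem_powersetCard]
      constructor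
      · rintro ⟨⟨-, hJ⟩, hJΓ⟩
        exact ⟨fun x hx => Finset.mem_image.2 ⟨g⁻¹ • x, hJΓ x hx, smul_inv_smul g x⟩, hJ⟩
      · rintro ⟨hJ, hJc⟩
        refine ⟨⟨Finset.subset_univ _, hJc⟩, fun x hx => ?_⟩
        obtain ⟨y, hy, rfl⟩ := Finset.mem_image.1 (hJ hx)
        rwa [inv_smul_smul]
    rw [← key, Finset.card_filter]
    exact Finset.sum_congr rfl fun J _ => by split_ifs <;> simp_all
  rw [Finset.sum_congr rfl (fun J hJ => W_perm_invariant G Γ hk hkn
      (J := I) (Finset.mem_powersetCard.1 hJ).2 ((Finset.mem_powersetCard.1 hJ).2.trans_le hI)),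
    Finset.sum_const, smul_eq_mul, Finset.card_powersetCard, Finset.card_univ,
    ← Nat.card_eq_fintype_card] at hsum
  refine Nat.eq_of_mul_eq_mul_left (show 0 < (Nat.card Ω).choose i from
    Nat.choose_pos (hI.trans hkn)) ?_
  rw [← mul_assoc, hsum, mul_assoc, mul_comm (Γ.card.choose i), Nat.choose_mul hIm]
  ring

theorem W_formula {k : ℕ} (hk : IsMultiplyPretransitive G Ω k) (hkn : k ≤ Nat.card Ω) :
    ∀ (O I : Finset Ω), Disjoint I O → I.card + O.card ≤ k → I.card ≤ Γ.card →
      W G Γ I O * (Nat.card Ω).choose Γ.card =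
        Nat.card G * (Nat.card Ω - I.card - O.card).choose (Γ.card - I.card) := by
  intro O
  induction O using Finset.induction_on with
  | empty => intro I _ h1 h2; simpa using W_base G Γ hk hkn (by simpa using h1) h2
  | @insert x O hx ih =>
    intro I hd h1 h2
    rw [Finset.card_insert_of_notMem hx] at h1 ⊢
    rw [Finset.disjoint_insert_right] at hd
    have e := W_split G Γ I O x
    have h0 := ih I hd.2 (by omega) h2
    rw [e, add_mul] at h0
    rcases Nat.lt_or_ge I.card Γ.card with h | h
    · have h3 := ih (insert x I) (Finset.disjoint_insert_left.2 ⟨hx, hd.2⟩)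
        (by rw [Finset.card_insert_of_notMem hd.1]; omega) (by rw [Finset.card_insert_of_notMem hd.1]; omega)
      rw [Finset.card_insert_of_notMem hd.1] at h3
      obtain ⟨M, hM⟩ : ∃ M, Nat.card Ω - I.card - O.card = M + 1 :=
        ⟨Nat.card Ω - I.card - O.card - 1, by omega⟩
      obtain ⟨r, hr⟩ : ∃ r, Γ.card - I.card = r + 1 := ⟨Γ.card - I.card - 1, by omega⟩
      rw [hM, hr, Nat.choose_succ_succ', mul_add] at h0
      rw [show Nat.card Ω - (I.card + 1) - O.card = M by omega,
        show Γ.card - (I.card + 1) = r by omega] at h3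
      rw [show Nat.card Ω - I.card - (O.card + 1) = M by omega, hr]
      omega
    · have hz : W G Γ (insert x I) O = 0 :=
        W_eq_zero_of_card G Γ (by rw [Finset.card_insert_of_notMem hd.1]; omega)
      rw [hz, zero_mul, zero_add] at h0
      rw [h0, show Γ.card - I.card = 0 by omega, Nat.choose_zero_right, Nat.choose_zero_right]

end Cfsg.Agent.Lib.RecogThree.Marggraf
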