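import Cfsg.Agent.Lib.RecogThree.MarggrafCount

/-! Marggraf's theorem for primitive actions: a Jordan set with fewer than half of the points
forces the alternating group. -/

set_option autoImplicit false
set_option linter.unusedSectionVars false

namespace Cfsg.Agent.Lib.RecogThree.Marggraf

open MulAction
open scoped Pointwise

/-- the pointwise stabilizer of the complement of `Γ` is transitive on `Γ` -/
def IsJordan (G : Type*) {Ω : Type*} [Group G] [MulAction G Ω] (Γ : Finset Ω) : Prop :=
  ∀ x ∈ Γ, ∀ y ∈ Γ, ∃ j : G, j • x = y ∧ ∀ z, z ∉ Γ → j • z = z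

variable {G Ω : Type*} [Group G] [MulAction G Ω]

theorem IsJordan.translate {Γ : Finset Ω} (hJ : IsJordan G Γ) (g : G) {u v : Ω}
    (hu : g⁻¹ • u ∈ Γ) (hv : g⁻¹ • v ∈ Γ) :
    ∃ j : G, j • u = v ∧ ∀ z, g⁻¹ • z ∉ Γ → j • z = z := by
  obtain ⟨j, hj, hfix⟩ := hJ _ hu _ hv
  refine ⟨g * j * g⁻¹, ?_, fun z hz => ?_⟩
  · rw [mul_smul, mul_smul, hj, smul_inv_smul]
  · rw [mul_smul, mul_smul, hfix _ hz, smul_inv_smul]

variable [Finite Ω]

/-- moving one point while fixing a finite set pointwise -/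
theorem exists_fix_move {k : ℕ} (hk : IsMultiplyPretransitive G Ω k) (hkn : k ≤ Nat.card Ω)
    {T : Finset Ω} {u v : Ω} (hu : u ∉ T) (hv : v ∉ T) (hT : T.card + 1 ≤ k) :
    ∃ g : G, (∀ z ∈ T, g • z = z) ∧ g • u = v := by
  classical
  have := isMultiplyPretransitive_of_le (G := G) (α := Ω)
    (m := (insert u T).card) (by rw [Finset.card_insert_of_notMem hu]; exact hT) hkn
  let e : Fin (insert u T).card ↪ Ω :=
    (insert u T).equivFin.symm.toEmbedding.trans (Function.Embedding.subtype _)
  let e' : Fin (insert u T).card ↪ Ω := ⟨fun i => if e i = u then v else e i, by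
    intro i j hij
    have hi : e i = u ∨ e i ∈ T := Finset.mem_insert.1 ((insert u T).equivFin.symm i).2
    have hj : e j = u ∨ e j ∈ T := Finset.mem_insert.1 ((insert u T).equivFin.symm j).2
    apply e.injective
    simp only at hij
    split_ifs at hij with h1 h2 h2
    · rw [h1, h2]
    · exact absurd (hij.symm ▸ hj.resolve_left h2) hv
    · exact absurd (hij ▸ hi.resolve_left h1) hv
    · exact hij⟩
  obtain ⟨g, hg⟩ := exists_smul_eq G e e'
  have key : ∀ z ∈ insert u T, g • z = if z = u then v else z := by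
    intro z hz
    have := DFunLike.congr_fun hg ((insert u T).equivFin ⟨z, hz⟩)
    rw [Function.Embedding.smul_apply] at this
    have h1 : e ((insert u T).equivFin ⟨z, hz⟩) = z := by simp [e]
    have h2 : e' ((insert u T).equivFin ⟨z, hz⟩) = if e ((insert u T).equivFin ⟨z, hz⟩) = u then v
        else e ((insert u T).equivFin ⟨z, hz⟩) := rfl
    rw [h2, h1] at this
    exact this
  refine ⟨g, fun z hz => ?_, by simpa using key u (Finset.mem_insert_self u T)⟩
  rw [key z (Finset.mem_insert_of_mem hz), if_neg]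
  rintro rfl
  exact hu hz

variable [Finite G]

/-- the counting contradiction: membership of `c` cannot be forced -/
theorem no_forced [DecidableEq Ω] {Γ T : Finset Ω} {a c : Ω}
    (hk : IsMultiplyPretransitive G Ω (T.card + 1)) (hs1 : 1 ≤ T.card) (hsm : T.card + 1 < Γ.card)
    (hmn : 2 * Γ.card < Nat.card Ω) (ha : a ∉ T) (hc : c ∉ T) (hac : a ≠ c)
    (hforced : ∀ g : G, g⁻¹ • a ∈ Γ → (∀ z ∈ T, g⁻¹ • z ∉ Γ) → g⁻¹ • c ∈ Γ) : False := by
  classical
  have := Fintype.ofFinite G
  have hkn : T.card + 1 ≤ Nat.card Ω := by omega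
  have hfm : ∀ O I : Finset Ω, Disjoint I O → I.card + O.card ≤ T.card + 1 → I.card ≤ Γ.card →
      W G Γ I O * (Nat.card Ω).choose Γ.card =
        Nat.card G * (Nat.card Ω - I.card - O.card).choose (Γ.card - I.card) :=
    W_formula G Γ hk hkn
  obtain ⟨N, hN⟩ : ∃ N, Nat.card Ω = N + T.card + 2 := ⟨Nat.card Ω - T.card - 2, by omega⟩
  have hU : ∀ J : Finset Ω, J ⊆ T →
      (W G Γ (insert a (insert c J)) (T \ J) : ℤ) * (Nat.card Ω).choose Γ.card =
        Nat.card G * ((N.choose (Γ.card - 2 - J.card) : ℤ) +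
          (-1) ^ J.card * N.choose (Γ.card - 1)) := by
    intro J
    induction J using Finset.induction_on with
    | empty =>
      intro _
      have h0 : W G Γ {a} (insert c T) = 0 :=
        W_eq_zero G Γ fun g h1 h2 => h2 c (Finset.mem_insert_self c T)
          (hforced g (h1 a (Finset.mem_singleton_self a))
            fun z hz => h2 z (Finset.mem_insert_of_mem hz))
      have h1 := W_split G Γ {a} T c
      rw [h0, add_zero, Finset.pair_comm] at h1
      have h2 := hfm T {a} (Finset.disjoint_singleton_left.2 ha)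
        (by rw [Finset.card_singleton]; omega) (by rw [Finset.card_singleton]; omega)
      rw [h1] at h2
      simp only [Finset.card_singleton] at h2
      rw [show Nat.card Ω - 1 - T.card = N + 1 by omega] at h2
      obtain ⟨r, hr⟩ : ∃ r, Γ.card - 1 = r + 1 := ⟨Γ.card - 2, by omega⟩
      rw [hr, Nat.choose_succ_succ', show r = Γ.card - 2 by omega] at h2
      rw [show r = Γ.card - 2 by omega] at hr
      simp only [Finset.card_empty, Finset.sdiff_empty, pow_zero, one_mul, Nat.sub_zero,
        insert_empty_eq, hr]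
      exact_mod_cast h2
    | @insert δ J hδ ih =>
      intro hsub
      rw [Finset.insert_subset_iff] at hsub
      have hJc : J.card + 1 ≤ T.card := by
        rw [← Finset.card_insert_of_notMem hδ]
        exact Finset.card_le_card (Finset.insert_subset_iff.2 hsub)
      have hδa : δ ≠ a := fun h => ha (h ▸ hsub.1)
      have hδc : δ ≠ c := fun h => hc (h ▸ hsub.1)
      have haJ : a ∉ J := fun h => ha (hsub.2 h)
      have hcJ : c ∉ J := fun h => hc (hsub.2 h)
      have hcard : (insert a (insert c J)).card = J.card + 2 := by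
        rw [Finset.card_insert_of_notMem (by simp [hac, haJ]), Finset.card_insert_of_notMem hcJ]
      have hsplit := W_split G Γ (insert a (insert c J)) ((T \ J).erase δ) δ
      rw [Finset.insert_erase (Finset.mem_sdiff.2 ⟨hsub.1, hδ⟩), Finset.insert_comm δ a,
        Finset.insert_comm δ c] at hsplit
      have hsd : T \ insert δ J = (T \ J).erase δ := Finset.sdiff_insert T J δ
      rw [← hsd] at hsplit
      have hOc : (T \ insert δ J).card = T.card - J.card - 1 := by
        rw [Finset.card_sdiff_of_subset (Finset.insert_subset_iff.2 hsub),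
          Finset.card_insert_of_notMem hδ]
        omega
      have h2 := hfm (T \ insert δ J) (insert a (insert c J)) (by
          simp only [Finset.disjoint_insert_left, Finset.mem_sdiff, Finset.mem_insert, ha, hc,
            false_and, not_false_eq_true, true_and]
          exact (Finset.disjoint_sdiff (s := insert δ J) (t := T)).mono_left
            (Finset.subset_insert δ J))
        (by omega) (by omega)
      rw [hsplit, hcard, hOc, show Nat.card Ω - (J.card + 2) - (T.card - J.card - 1) = N + 1 by omega,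
        show Γ.card - (J.card + 2) = (Γ.card - 2 - (J.card + 1)) + 1 by omega,
        Nat.choose_succ_succ', show Γ.card - 2 - (J.card + 1) + 1 = Γ.card - 2 - J.card by omega]
        at h2
      have h3 := ih hsub.2
      rw [Finset.card_insert_of_notMem hδ]
      zify at h2
      rw [add_mul, h3, mul_add, mul_add] at h2
      linear_combination h2
  have hT := hU T (Finset.Subset.refl T)
  rw [Finset.sdiff_self] at hT
  have hcU : 0 < Nat.card G := Nat.card_pos
  rcases Nat.even_or_odd T.card with he | ho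
  · rw [he.neg_one_pow, one_mul] at hT
    have h1 := W_split G Γ (insert a T) ∅ c
    rw [Finset.insert_comm c a] at h1
    have h2 := hfm ∅ (insert a T) (Finset.disjoint_empty_right _)
      (by rw [Finset.card_insert_of_notMem ha, Finset.card_empty])
      (by rw [Finset.card_insert_of_notMem ha]; omega)
    rw [h1, Finset.card_insert_of_notMem ha, Finset.card_empty,
      show Nat.card Ω - (T.card + 1) - 0 = N + 1 by omega,
      show Γ.card - (T.card + 1) = (Γ.card - 2 - T.card) + 1 by omega, Nat.choose_succ_succ',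
      show Γ.card - 2 - T.card + 1 = Γ.card - 1 - T.card by omega] at h2
    have hlt : N.choose (Γ.card - 1 - T.card) < N.choose (Γ.card - 1) :=
      choose_lt (by omega) (by omega) (by omega)
    have hT' : W G Γ (insert a (insert c T)) ∅ * (Nat.card Ω).choose Γ.card =
        Nat.card G * (N.choose (Γ.card - 2 - T.card) + N.choose (Γ.card - 1)) := by
      exact_mod_cast hT
    have hlt' := Nat.mul_lt_mul_of_pos_left
      (Nat.add_lt_add_left hlt (N.choose (Γ.card - 2 - T.card))) hcU
    rw [← h2, ← hT', add_mul] at hlt'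
    omega
  · rw [ho.neg_one_pow] at hT
    have hlt : N.choose (Γ.card - 2 - T.card) < N.choose (Γ.card - 1) :=
      choose_lt (by omega) (by omega) (by omega)
    have h0 : (0 : ℤ) ≤ (W G Γ (insert a (insert c T)) ∅ : ℤ) * (Nat.card Ω).choose Γ.card := by
      positivity
    rw [hT] at h0
    have : (Nat.card G : ℤ) * ((N.choose (Γ.card - 2 - T.card) : ℤ) + -1 * N.choose (Γ.card - 1))
        < 0 := mul_neg_of_pos_of_neg (by exact_mod_cast hcU) (by
          have : (N.choose (Γ.card - 2 - T.card) : ℤ) < N.choose (Γ.card - 1) := by exact_mod_cast hlt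
          linarith)
    linarith

/-- the second counting contradiction: translates avoiding `T` stay inside small classes -/
theorem no_confined [DecidableEq Ω] {Γ T : Finset Ω} {a : Ω} {C : Finset Ω}
    (hk : IsMultiplyPretransitive G Ω (T.card + 1)) (hs1 : 1 ≤ T.card) (hsm : T.card + 1 < Γ.card)
    (ha : a ∉ T) (hCT : Disjoint C T) (haC : a ∉ C) (hC : Γ.card < C.card)
    (hbig : 2 * Γ.card + 1 + T.card ≤ Nat.card Ω)
    (hsep : ∀ g : G, g⁻¹ • a ∈ Γ → (∀ z ∈ T, g⁻¹ • z ∉ Γ) → ∀ d ∈ C, g⁻¹ • d ∉ Γ) : False := by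
  classical
  have := Fintype.ofFinite G
  have hkn : T.card + 1 ≤ Nat.card Ω := by omega
  have hzero : ∀ d ∈ C, W G Γ {a, d} T = 0 := fun d hd => W_eq_zero G Γ fun g h1 h2 =>
    hsep g (h1 a (by simp)) h2 d hd (h1 d (by simp))
  rcases Nat.lt_or_ge T.card 2 with hs | hs
  · obtain ⟨δ, rfl⟩ := Finset.card_eq_one.1 (show T.card = 1 by omega)
    rw [Finset.card_singleton] at hk hkn
    have hδa : a ≠ δ := fun h => ha (by simp [h])
    have hall : ∀ d ∈ C, W G Γ {a, δ} {d} = 0 := by
      intro d hd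
      have hda : a ≠ d := fun h => haC (h ▸ hd)
      have h1 := W_split G Γ {a, δ} ∅ d
      have h2 := W_split G Γ {a, d} ∅ δ
      have h3 := W_perm_invariant G Γ hk hkn (I := {a, d}) (J := {a, δ})
        (by rw [Finset.card_pair hda, Finset.card_pair hδa]) (by rw [Finset.card_pair hda])
      have h4 : (insert δ {a, d} : Finset Ω) = insert d {a, δ} := by
        ext z; simp only [Finset.mem_insert, Finset.mem_singleton]; tauto
      have h5 := hzero d hd
      rw [h4] at h2
      simp only [insert_empty_eq] at h1 h2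
      omega
    obtain ⟨x, hx, y, hy, hxy⟩ := Finset.one_lt_card.1 (show 1 < Γ.card by omega)
    obtain ⟨h, hh⟩ := exists_map_finset hk hkn (I := {a, δ}) (J := {x, y})
      (by rw [Finset.card_pair hδa, Finset.card_pair hxy]) (by rw [Finset.card_pair hδa])
    have hmem : ∀ z ∈ ({a, δ} : Finset Ω), (h⁻¹)⁻¹ • z ∈ Γ := by
      intro z hz
      rw [inv_inv]
      rcases Finset.mem_insert.1 (hh z hz) with e | e
      · rwa [e]
      · rw [Finset.mem_singleton.1 e]; exact hy
    have hsub : C.image (fun z => h • z) ⊆ Γ := by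
      intro w hw
      obtain ⟨d, hd, rfl⟩ := Finset.mem_image.1 hw
      by_contra hcon
      have hpos : 0 < W G Γ {a, δ} {d} := by
        rw [W, Finset.card_pos]
        exact ⟨h⁻¹, Finset.mem_filter.2 ⟨Finset.mem_univ _, hmem, by simpa using hcon⟩⟩
      rw [hall d hd] at hpos
      exact lt_irrefl 0 hpos
    have := Finset.card_le_card hsub
    rw [Finset.card_image_of_injective _ (MulAction.injective h)] at this
    omega
  · obtain ⟨δ₁, hδ₁, δ₂, hδ₂, h12⟩ := Finset.one_lt_card.1 (show 1 < T.card by omega)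
    obtain ⟨d, hd⟩ := Finset.card_pos.1 (show 0 < C.card by omega)
    have hdT : d ∉ T := fun h => Finset.disjoint_left.1 hCT hd h
    have hda : a ≠ d := fun h => haC (h ▸ hd)
    set R := (T.erase δ₁).erase δ₂ with hR
    have hδ₂' : δ₂ ∈ T.erase δ₁ := Finset.mem_erase.2 ⟨h12.symm, hδ₂⟩
    have hRc : R.card + 2 = T.card := by
      rw [hR, Finset.card_erase_of_mem hδ₂', Finset.card_erase_of_mem hδ₁]; omega
    have hT1 : insert δ₁ (insert δ₂ R) = T := by
      rw [hR, Finset.insert_erase hδ₂', Finset.insert_erase hδ₁]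
    have hR1 : δ₁ ∉ R := fun h => (Finset.mem_erase.1 (Finset.mem_erase.1 h).2).1 rfl
    have hR2 : δ₂ ∉ R := fun h => (Finset.mem_erase.1 h).1 rfl
    have hRT : R ⊆ T := (Finset.erase_subset _ _).trans (Finset.erase_subset _ _)
    have hI : ({a, d} : Finset Ω).card = 2 := Finset.card_pair hda
    have hdisj : ∀ O : Finset Ω, O ⊆ T → Disjoint ({a, d} : Finset Ω) O := by
      intro O hO
      simp only [Finset.disjoint_insert_left, Finset.disjoint_singleton_left]
      exact ⟨fun h => ha (hO h), fun h => hdT (hO h)⟩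
    have hfm := W_formula G Γ hk hkn
    have f0 := hfm R {a, d} (hdisj R hRT) (by omega) (by omega)
    have f1 := hfm (insert δ₁ R) {a, d} (hdisj _ (Finset.insert_subset_iff.2 ⟨hδ₁, hRT⟩))
      (by rw [Finset.card_insert_of_notMem hR1]; omega) (by omega)
    have f2 := hfm (insert δ₂ R) {a, d} (hdisj _ (Finset.insert_subset_iff.2 ⟨hδ₂, hRT⟩))
      (by rw [Finset.card_insert_of_notMem hR2]; omega) (by omega)
    have e0 := W_split G Γ {a, d} R δ₁
    have e1 := W_split G Γ (insert δ₁ {a, d}) R δ₂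
    have e2 := W_split G Γ {a, d} (insert δ₂ R) δ₁
    rw [hT1, hzero d hd, add_zero] at e2
    rw [← e2] at e1
    rw [hI, Finset.card_insert_of_notMem hR1] at f1
    rw [hI, Finset.card_insert_of_notMem hR2] at f2
    rw [hI] at f0
    obtain ⟨N, hN⟩ : ∃ N, Nat.card Ω - 2 - R.card = N + 1 :=
      ⟨Nat.card Ω - 3 - R.card, by omega⟩
    obtain ⟨r, hr⟩ : ∃ r, Γ.card - 2 = r + 1 := ⟨Γ.card - 3, by omega⟩
    rw [hN, hr, Nat.choose_succ_succ'] at f0
    rw [show Nat.card Ω - 2 - (R.card + 1) = N by omega, hr] at f1 f2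
    have hlt : N.choose r < N.choose (r + 1) := choose_lt (by omega) (by omega) (by omega)
    have hlt' := Nat.mul_lt_mul_of_pos_left (Nat.add_lt_add_right hlt (N.choose (r + 1)))
      (Nat.card_pos : 0 < Nat.card G)
    rw [← f0, mul_add] at hlt'
    nlinarith [f1, f2, hlt', Nat.zero_le ((Nat.card Ω).choose Γ.card)]

/-- the fixing subgroup of `T` is primitive on the remaining points -/
theorem preprimitive_step [DecidableEq Ω] {Γ T : Finset Ω} (hJ : IsJordan G Γ)
    (hk : IsMultiplyPretransitive G Ω (T.card + 1)) (hs1 : 1 ≤ T.card) (hsm : T.card + 1 < Γ.card)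
    (hmn : 2 * Γ.card < Nat.card Ω) :
    IsPreprimitive (fixingSubgroup G (T : Set Ω))
      (SubMulAction.ofFixingSubgroup G (T : Set Ω)) := by
  classical
  set H := fixingSubgroup G (T : Set Ω)
  set X := SubMulAction.ofFixingSubgroup G (T : Set Ω)
  have hkn : T.card + 1 ≤ Nat.card Ω := by omega
  have : IsPretransitive H X := by
    refine ⟨fun u v => ?_⟩
    obtain ⟨g, hg, hguv⟩ := exists_fix_move hk hkn (u := (u : Ω)) (v := (v : Ω))
      (fun h => u.2 (Finset.mem_coe.2 h)) (fun h => v.2 (Finset.mem_coe.2 h)) le_rfl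
    exact ⟨⟨g, (mem_fixingSubgroup_iff G).2 fun z hz => hg z hz⟩, Subtype.ext hguv⟩
  have hXc : Nat.card X + T.card = Nat.card Ω := by
    rw [← Set.ncard_univ X, ← Set.ncard_image_of_injective _ Subtype.val_injective,
      show (Subtype.val '' (Set.univ : Set X)) = (T : Set Ω)ᶜ by
        rw [Set.image_univ, Subtype.range_coe_subtype]; rfl,
      ← Set.ncard_coe_finset T, add_comm, Set.ncard_add_ncard_compl]
  obtain ⟨a⟩ : Nonempty X := (Nat.card_pos_iff.1 (by omega : 0 < Nat.card X)).1
  refine IsPreprimitive.of_isTrivialBlock_base a fun {B} haB hB => ?_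
  by_contra htriv
  simp only [IsTrivialBlock, not_or] at htriv
  obtain ⟨hBs, hBu⟩ := htriv
  have hmove : ∀ g : G, (∀ z ∈ T, g⁻¹ • z ∉ Γ) → ∀ (u w : X), u ∈ B → w ∈ B →
      g⁻¹ • (u : Ω) ∈ Γ → g⁻¹ • (w : Ω) ∉ Γ → ∀ v : Ω, g⁻¹ • v ∈ Γ → ∃ hv : v ∈ X, ⟨v, hv⟩ ∈ B := by
    intro g hg u w hu hw hug hwg v hv
    obtain ⟨j, hj, hfix⟩ := hJ.translate g hug hv
    let jH : H := ⟨j, (mem_fixingSubgroup_iff G).2 fun z hz => hfix z (hg z hz)⟩
    have hjw : jH • w = w := Subtype.ext (hfix _ hwg)
    have hjB : jH • B = B := (hB.smul_eq_or_disjoint jH).resolve_right fun hd =>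
      Set.disjoint_left.1 hd (Set.smul_mem_smul_set hw) (by rw [hjw]; exact hw)
    have hju : jH • u ∈ B := hjB ▸ Set.smul_mem_smul_set hu
    have hvv : ((jH • u : X) : Ω) = v := hj
    exact ⟨hvv ▸ (jH • u).2, by convert hju using 1; exact Subtype.ext hvv.symm⟩
  set BΩ : Set Ω := Subtype.val '' B
  have hBc : BΩ.ncard = B.ncard := Set.ncard_image_of_injective _ Subtype.val_injective
  have himg : ∀ g : G, ((fun z => g • z) '' (Γ : Set Ω)).ncard = Γ.card := fun g => by
    rw [Set.ncard_image_of_injective _ (MulAction.injective g), Set.ncard_coe_finset]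
  have hdich : ∀ g : G, (∀ z ∈ T, g⁻¹ • z ∉ Γ) → g⁻¹ • (a : Ω) ∈ Γ →
      BΩ ⊆ (fun z => g • z) '' (Γ : Set Ω) ∨ (fun z => g • z) '' (Γ : Set Ω) ⊆ BΩ := by
    intro g hg hga
    by_cases hall : ∀ w ∈ B, g⁻¹ • (w : Ω) ∈ Γ
    · left
      rintro _ ⟨w, hw, rfl⟩
      exact ⟨g⁻¹ • (w : Ω), hall w hw, smul_inv_smul g _⟩
    · right
      push Not at hall
      obtain ⟨w, hw, hwg⟩ := hall
      rintro _ ⟨x, hx, rfl⟩
      obtain ⟨hv, hvB⟩ := hmove g hg a w haB hw hga hwg (g • x)
        (by rw [inv_smul_smul]; exact hx)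
      exact ⟨_, hvB, rfl⟩
  rcases Nat.lt_or_ge Γ.card B.ncard with hbig | hsmall
  · obtain ⟨e, he⟩ := (Set.ne_univ_iff_exists_notMem B).1 hBu
    obtain ⟨h, hh⟩ := exists_smul_eq H a e
    have hd : Disjoint (h • B) B := (hB.smul_eq_or_disjoint h).resolve_left fun hE =>
      he (by rw [← hh, ← hE]; exact Set.smul_mem_smul_set haB)
    have hcomp : B.ncard ≤ Bᶜ.ncard := by
      calc B.ncard = (h • B).ncard := (Set.ncard_smul_set h B).symm
        _ ≤ Bᶜ.ncard := Set.ncard_le_ncard (fun z hz => Set.disjoint_left.1 hd hz)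
    have hsum := Set.ncard_add_ncard_compl B
    let C : Finset Ω := (Set.toFinite (Subtype.val '' Bᶜ : Set Ω)).toFinset
    have hCc : C.card = Bᶜ.ncard := by
      rw [← Set.ncard_eq_toFinset_card, Set.ncard_image_of_injective _ Subtype.val_injective]
    refine no_confined hk hs1 hsm (a := (a : Ω)) (C := C) (fun h => a.2 (Finset.mem_coe.2 h))
      ?_ ?_ (by omega) (by omega) ?_
    · rw [Finset.disjoint_left]
      intro z hz hzT
      obtain ⟨w, -, rfl⟩ := (Set.Finite.mem_toFinset _).1 hz
      exact w.2 (Finset.mem_coe.2 hzT)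
    · intro h
      obtain ⟨w, hw, hwa⟩ := (Set.Finite.mem_toFinset _).1 h
      exact hw (Subtype.ext hwa ▸ haB)
    · intro g hga hg d hd hdg
      obtain ⟨w, hw, rfl⟩ := (Set.Finite.mem_toFinset _).1 hd
      rcases hdich g hg hga with h' | h'
      · have := Set.ncard_le_ncard h'
        rw [himg, hBc] at this
        omega
      · obtain ⟨v, hv, hvw⟩ := h' ⟨_, hdg, smul_inv_smul g (w : Ω)⟩
        exact hw (Subtype.ext hvw ▸ hv)
  · obtain ⟨c, hcB, hca⟩ : ∃ c ∈ B, c ≠ a := by
      by_contra h'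
      push Not at h'
      exact hBs fun x hx y hy => (h' x hx).trans (h' y hy).symm
    refine no_forced hk hs1 hsm hmn (a := (a : Ω)) (c := (c : Ω))
      (fun h => a.2 (Finset.mem_coe.2 h)) (fun h => c.2 (Finset.mem_coe.2 h))
      (fun h => hca (Subtype.ext h.symm)) fun g hga hg => ?_
    have hsub : BΩ ⊆ (fun z => g • z) '' (Γ : Set Ω) := by
      rcases hdich g hg hga with h' | h'
      · exact h'
      · exact (Set.eq_of_subset_of_ncard_le h' (by rw [himg, hBc]; exact hsmall)).ge
    obtain ⟨x, hx, hxc⟩ := hsub ⟨c, hcB, rfl⟩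
    rw [← hxc, inv_smul_smul]
    exact hx

theorem succ_step [DecidableEq Ω] {Γ : Finset Ω} (hJ : IsJordan G Γ) {s : ℕ}
    (hk : IsMultiplyPretransitive G Ω (s + 1)) (hs1 : 1 ≤ s) (hsm : s + 1 < Γ.card)
    (hmn : 2 * Γ.card < Nat.card Ω) : IsMultiplyPretransitive G Ω (s + 2) := by
  classical
  have hkn : s + 1 ≤ Nat.card Ω := by omega
  rw [isMultiplyPretransitive_iff]
  intro x y
  have := isMultiplyPretransitive_of_le (G := G) (α := Ω) (m := s) (n := s + 1) (by omega) hkn
  let ι : Fin s ↪ Fin (s + 2) := Fin.castLEEmb (by omega)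
  obtain ⟨g, hg⟩ := exists_smul_eq G (ι.trans x) (ι.trans y)
  let T : Finset Ω := Finset.univ.map (ι.trans y)
  have hTc : T.card = s := by simp [T]
  have hH := preprimitive_step hJ (T := T) (by rwa [hTc]) (by omega) (by omega) hmn
  set H := fixingSubgroup G (T : Set Ω)
  set X := SubMulAction.ofFixingSubgroup G (T : Set Ω)
  -- a translate of `Γ` avoiding `T`
  obtain ⟨T', hT', hT'c⟩ := Set.exists_subset_card_eq (s := (Γ : Set Ω)ᶜ) (n := T.card)
    (by have := Set.ncard_add_ncard_compl (Γ : Set Ω); rw [Set.ncard_coe_finset] at this; omega)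
  obtain ⟨h, hh⟩ := exists_map_finset hk hkn (I := T) (J := (Set.toFinite T').toFinset)
    (by rw [← Set.ncard_eq_toFinset_card, hT'c]) (by omega)
  have hav : ∀ z ∈ T, h • z ∉ Γ := fun z hz =>
    hT' ((Set.Finite.mem_toFinset _).1 (hh z hz))
  have hX : ∀ z : Ω, z ∈ X ↔ z ∉ T := fun z => by
    simp [X, SubMulAction.mem_ofFixingSubgroup_iff]
  let Sc : Set X := {z : X | h • (z : Ω) ∉ Γ}
  obtain ⟨p, hp, q, hq, hpq⟩ := Finset.one_lt_card.1 (show 1 < Γ.card by omega)
  have hinX : ∀ r ∈ Γ, h⁻¹ • r ∈ X := fun r hr => (hX _).2 fun hm =>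
    hav _ hm (by rw [smul_inv_smul]; exact hr)
  have hScsmall : Sc.ncard + 2 ≤ Nat.card X := by
    rw [← Set.ncard_add_ncard_compl Sc]
    refine Nat.add_le_add_left ?_ _
    exact (Set.one_lt_ncard (Set.toFinite _)).2
      ⟨⟨h⁻¹ • p, hinX p hp⟩, by simp [Sc, hp], ⟨h⁻¹ • q, hinX q hq⟩, by simp [Sc, hq],
        fun he => hpq (MulAction.injective h⁻¹ (congrArg Subtype.val he))⟩
  have hScpos : 0 < Sc.ncard := by
    rw [Set.ncard_pos]
    obtain ⟨z, hz⟩ : ∃ z, z ∉ T ∪ Γ.image (fun r => h⁻¹ • r) := by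
      by_contra hcon
      push Not at hcon
      have := Fintype.ofFinite Ω
      have h1 := Finset.card_le_card (s := (Finset.univ : Finset Ω)) (fun z _ => hcon z)
      have h2 := Finset.card_union_le T (Γ.image fun r => h⁻¹ • r)
      have h3 := Finset.card_image_le (s := Γ) (f := fun r => h⁻¹ • r)
      rw [Finset.card_univ, ← Nat.card_eq_fintype_card] at h1
      omega
    simp only [Finset.mem_union, Finset.mem_image, not_or, not_exists, not_and] at hz
    exact ⟨⟨z, (hX z).2 hz.1⟩, fun hm => hz.2 _ hm (inv_smul_smul h z)⟩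
  have htrans : IsPretransitive (fixingSubgroup H Sc) (SubMulAction.ofFixingSubgroup H Sc) := by
    refine ⟨fun u v => ?_⟩
    have hu : h • ((u : X) : Ω) ∈ Γ := not_not.1 u.2
    have hv : h • ((v : X) : Ω) ∈ Γ := not_not.1 v.2
    obtain ⟨j, hj, hfix⟩ := hJ.translate h⁻¹ (u := ((u : X) : Ω)) (v := ((v : X) : Ω))
      (by rwa [inv_inv]) (by rwa [inv_inv])
    simp only [inv_inv] at hfix
    let jH : H := ⟨j, (mem_fixingSubgroup_iff G).2 fun z hz => hfix z (hav z hz)⟩
    refine ⟨⟨jH, (mem_fixingSubgroup_iff H).2 fun z hz => Subtype.ext (hfix _ hz)⟩, ?_⟩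
    exact Subtype.ext (Subtype.ext hj)
  have h2 := hH.is_two_pretransitive (s := Sc) (n := Sc.ncard - 1) (by omega) (by omega) htrans
  rw [is_two_pretransitive_iff] at h2
  let p0 : Fin (s + 2) := ⟨s, by omega⟩
  let p1 : Fin (s + 2) := ⟨s + 1, by omega⟩
  have hp01 : p0 ≠ p1 := by simp [p0, p1]
  have hgi : ∀ i : Fin s, g • x (ι i) = y (ι i) := fun i => DFunLike.congr_fun hg i
  have hnotT : ∀ p : Fin (s + 2), s ≤ (p : ℕ) → y p ∈ X ∧ g • x p ∈ X := by
    intro p hp
    have hne : ∀ i : Fin s, ι i ≠ p := fun i hi => by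
      have := congrArg Fin.val hi
      have hi' : ((ι i : Fin (s + 2)) : ℕ) = (i : ℕ) := rfl
      have := i.2
      omega
    refine ⟨(hX _).2 fun hm => ?_, (hX _).2 fun hm => ?_⟩
    · obtain ⟨i, -, hi⟩ := Finset.mem_map.1 hm
      exact hne i (y.injective hi)
    · obtain ⟨i, -, hi⟩ := Finset.mem_map.1 hm
      refine hne i (x.injective (MulAction.injective g ?_))
      exact (hgi i).trans hi
  obtain ⟨hy0, hx0⟩ := hnotT p0 le_rfl
  obtain ⟨hy1, hx1⟩ := hnotT p1 (Nat.le_succ s)
  obtain ⟨k, hk0, hk1⟩ := h2 (a := (⟨g • x p0, hx0⟩ : X)) (b := ⟨g • x p1, hx1⟩)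
    (c := ⟨y p0, hy0⟩) (d := ⟨y p1, hy1⟩)
    (fun he => hp01 (x.injective (MulAction.injective g (congrArg Subtype.val he))))
    (fun he => hp01 (y.injective (congrArg Subtype.val he)))
  refine ⟨(k : G) * g, DFunLike.ext _ _ fun i => ?_⟩
  rw [Function.Embedding.smul_apply, mul_smul]
  rcases Nat.lt_or_ge (i : ℕ) s with hi | hi
  · obtain ⟨i', rfl⟩ : ∃ i' : Fin s, ι i' = i := ⟨⟨i, hi⟩, Fin.ext rfl⟩
    rw [hgi i']
    exact (mem_fixingSubgroup_iff G).1 k.2 _
      (Finset.mem_coe.2 (Finset.mem_map.2 ⟨i', Finset.mem_univ _, rfl⟩))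
  · rcases Nat.eq_or_lt_of_le hi with hi' | hi'
    · obtain rfl : i = p0 := Fin.ext hi'.symm
      exact congrArg Subtype.val hk0
    · obtain rfl : i = p1 := Fin.ext (by have := i.2; change (i : ℕ) = s + 1; omega)
      exact congrArg Subtype.val hk1

/-- a primitive group with a small Jordan set is as transitive as the set is large -/
theorem pretransitive_card [DecidableEq Ω] {Γ : Finset Ω} (hG : IsPreprimitive G Ω)
    (hJ : IsJordan G Γ) (hm : 1 < Γ.card) (hmn : 2 * Γ.card < Nat.card Ω) :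
    IsMultiplyPretransitive G Ω Γ.card := by
  classical
  have h2 : IsMultiplyPretransitive G Ω 2 := by
    have hsum := Set.ncard_add_ncard_compl (Γ : Set Ω)
    rw [Set.ncard_coe_finset] at hsum
    refine hG.is_two_pretransitive (s := (Γ : Set Ω)ᶜ) (n := (Γ : Set Ω)ᶜ.ncard - 1)
      (by omega) (by omega) ⟨fun u v => ?_⟩
    obtain ⟨j, hj, hfix⟩ := hJ u (Finset.mem_coe.1 (not_not.1 u.2)) v
      (Finset.mem_coe.1 (not_not.1 v.2))
    exact ⟨⟨j, (mem_fixingSubgroup_iff G).2 fun z hz =>
      hfix z fun h => hz (Finset.mem_coe.2 h)⟩, Subtype.ext hj⟩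
  have key : ∀ d, d + 2 ≤ Γ.card → IsMultiplyPretransitive G Ω (d + 2) := by
    intro d
    induction d with
    | zero => intro _; exact h2
    | succ d ih =>
      intro hd
      exact succ_step hJ (s := d + 1) (ih (by omega)) (by omega) (by omega) hmn
  obtain ⟨d, hd⟩ : ∃ d, Γ.card = d + 2 := ⟨Γ.card - 2, by omega⟩
  rw [hd]
  exact key d (by omega)

/-- a commutator of two permutations whose supports meet in one point -/
theorem commutator_eq [DecidableEq Ω] (X Y : Equiv.Perm Ω) {a b c : Ω} (hab : b ≠ a)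
    (hac : c ≠ a) (hXa : X a = b) (hYa : Y a = c)
    (hsep : ∀ z, z ≠ a → X z = z ∨ Y z = z) :
    X * Y * X⁻¹ * Y⁻¹ = Equiv.swap a c * Equiv.swap a b := by
  have hXb : X b ≠ b := fun h => hab (X.injective (h.trans hXa.symm))
  have hYc : Y c ≠ c := fun h => hac (Y.injective (h.trans hYa.symm))
  have hYb : Y b = b := (hsep b hab).resolve_left hXb
  have hXc : X c = c := (hsep c hac).resolve_right hYc
  have hbc : b ≠ c := fun h => hYc (h ▸ hYb)
  -- rewrite as `X * Y = (swap * swap) * Y * X`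
  have key : X * Y = Equiv.swap a c * Equiv.swap a b * Y * X := by
    ext z
    simp only [Equiv.Perm.mul_apply]
    rcases eq_or_ne z a with rfl | hza
    · rw [hYa, hXc, hXa, hYb, Equiv.swap_apply_right, Equiv.swap_apply_left]
    rcases eq_or_ne (X z) z with hXz | hXz
    · rw [hXz]
      rcases eq_or_ne (Y z) a with hYz | hYz
      · rw [hYz, hXa, Equiv.swap_apply_left, Equiv.swap_apply_of_ne_of_ne hab hbc]
      · rcases eq_or_ne (Y z) z with hYz' | hYz'
        · rw [hYz', hXz]
          have hzb : z ≠ b := fun h => hXb (h ▸ hXz)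
          have hzc : z ≠ c := fun h => hYc (h ▸ hYz')
          rw [Equiv.swap_apply_of_ne_of_ne hza hzb, Equiv.swap_apply_of_ne_of_ne hza hzc]
        · have hYY : Y (Y z) ≠ Y z := fun h => hYz' (Y.injective h)
          have hXYz : X (Y z) = Y z := (hsep _ hYz).resolve_right hYY
          have hb' : Y z ≠ b := fun h => hXb (h ▸ hXYz)
          have hc' : Y z ≠ c := fun h => hza (Y.injective (h.trans hYa.symm))
          rw [hXYz, Equiv.swap_apply_of_ne_of_ne hYz hb', Equiv.swap_apply_of_ne_of_ne hYz hc']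
    · have hYz : Y z = z := (hsep z hza).resolve_left hXz
      rw [hYz]
      rcases eq_or_ne (X z) a with hXz' | hXz'
      · rw [hXz', hYa, Equiv.swap_apply_of_ne_of_ne hac hbc.symm, Equiv.swap_apply_right]
      · have hXX : X (X z) ≠ X z := fun h => hXz (X.injective h)
        have hYXz : Y (X z) = X z := (hsep _ hXz').resolve_left hXX
        have hb' : X z ≠ b := fun h => hza (X.injective (h.trans hXa.symm))
        have hc' : X z ≠ c := fun h => hYc (h ▸ hYXz)
        rw [hYXz, Equiv.swap_apply_of_ne_of_ne hXz' hb', Equiv.swap_apply_of_ne_of_ne hXz' hc']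
  rw [key]
  group

/-- **Marggraf's theorem**: a primitive group with a Jordan set of fewer than half of the points
contains the alternating group. -/
theorem marggraf [Fintype Ω] [DecidableEq Ω] {Γ : Finset Ω} (hG : IsPreprimitive G Ω)
    (hJ : IsJordan G Γ) (hm : 1 < Γ.card) (hmn : 2 * Γ.card < Nat.card Ω) :
    alternatingGroup Ω ≤ (MulAction.toPermHom G Ω).range := by
  have hk := pretransitive_card hG hJ hm hmn
  obtain ⟨a, ha, b, hb, hab⟩ := Finset.one_lt_card.1 hm
  obtain ⟨S, hS, hSc⟩ := Finset.exists_subset_card_eq (s := (Finset.univ \ Γ : Finset Ω))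
    (n := Γ.card - 1) (by
      rw [Finset.card_univ_diff, ← Nat.card_eq_fintype_card]; omega)
  have hSΓ : ∀ z ∈ S, z ∉ Γ := fun z hz => (Finset.mem_sdiff.1 (hS hz)).2
  have haS : a ∉ S := fun h => hSΓ a h ha
  obtain ⟨c, hc⟩ := Finset.card_pos.1 (show 0 < S.card by omega)
  have hcard : (insert a S).card = Γ.card := by rw [Finset.card_insert_of_notMem haS]; omega
  obtain ⟨g, hg⟩ := exists_map_finset hk (by omega) (I := Γ) (J := insert a S) hcard.symm le_rfl
  have hsurj : ∀ z ∈ insert a S, g⁻¹ • z ∈ Γ := by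
    have himg : Γ.image (fun r => g • r) = insert a S :=
      Finset.eq_of_subset_of_card_le (fun w hw => by
        obtain ⟨r, hr, rfl⟩ := Finset.mem_image.1 hw
        exact hg r hr) (by rw [Finset.card_image_of_injective _ (MulAction.injective g), hcard])
    intro z hz
    rw [← himg] at hz
    obtain ⟨r, hr, rfl⟩ := Finset.mem_image.1 hz
    rwa [inv_smul_smul]
  obtain ⟨x, hxa, hxfix⟩ := hJ a ha b hb
  obtain ⟨y, hya, hyfix⟩ := hJ.translate g (hsurj a (Finset.mem_insert_self a S))
    (hsurj c (Finset.mem_insert_of_mem hc))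
  have hsep : ∀ z, z ≠ a → MulAction.toPerm x z = z ∨ MulAction.toPerm y z = z := by
    intro z hza
    by_cases hz : z ∈ Γ
    · refine Or.inr (hyfix z fun h => ?_)
      have := hg _ h
      rw [smul_inv_smul] at this
      rcases Finset.mem_insert.1 this with h' | h'
      · exact hza h'
      · exact hSΓ z h' hz
    · exact Or.inl (hxfix z hz)
  have hbc : b ≠ c := fun h => hSΓ c hc (h ▸ hb)
  have hca : c ≠ a := fun h => haS (h ▸ hc)
  have heq := commutator_eq (MulAction.toPerm x) (MulAction.toPerm y) hab.symm hca hxa hya hsep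
  have h3 : (Equiv.swap a c * Equiv.swap a b).IsThreeCycle :=
    Equiv.Perm.isThreeCycle_swap_mul_swap_same hca.symm hab hbc.symm
  have hmem : Equiv.swap a c * Equiv.swap a b ∈ (MulAction.toPermHom G Ω).range := by
    rw [← heq]
    exact ⟨x * y * x⁻¹ * y⁻¹, by simp only [map_mul, map_inv, MulAction.toPermHom_apply]⟩
  have hR : IsPreprimitive (MulAction.toPermHom G Ω).range Ω := by
    let f : Ω →ₑ[(MulAction.toPermHom G Ω).rangeRestrict] Ω :=
      { toFun := id, map_smul' := fun _ _ => rfl }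
    exact IsPreprimitive.of_surjective (f := f) Function.surjective_id
  exact Equiv.Perm.alternatingGroup_le_of_isPreprimitive_of_isThreeCycle_mem hR h3 hmem

end Cfsg.Agent.Lib.RecogThree.Marggraf
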