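import Cfsg.Agent.Lib.RecogThree.MarggrafPrimitive

/-! Marggraf's theorem for quasiprimitive actions. -/

set_option autoImplicit false
set_option linter.unusedSectionVars false

namespace Cfsg.Agent.Lib.RecogThree.Marggraf

open MulAction Equiv
open scoped Pointwise

theorem four_swaps {α : Type*} [DecidableEq α] {P Q R R' : α} (hPQ : P ≠ Q) (hPR : P ≠ R)
    (hPR' : P ≠ R') (hQR : Q ≠ R) (hQR' : Q ≠ R') (hRR' : R ≠ R') :
    swap Q R' * swap Q R * (swap P R * swap P R') = swap P R * swap P Q := by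
  ext z
  simp only [Perm.mul_apply, swap_apply_def]
  grind

variable {G Ω : Type*} [Group G] [MulAction G Ω] [Finite G] [Fintype Ω]

/-- A normal-type subgroup of permutations containing one three-cycle contains the alternating group -/
theorem alt_le_of_threeCycle {α : Type*} [Fintype α] [DecidableEq α] {M : Subgroup (Perm α)}
    {p q r : α} (hpq : p ≠ q) (hpr : p ≠ r) (hqr : q ≠ r)
    (hc : swap p q * swap p r ∈ M)
    (hnorm : ∀ σ ∈ alternatingGroup α, ∀ x ∈ M, σ * x * σ⁻¹ ∈ M) : alternatingGroup α ≤ M := by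
  have h3 := Perm.isThreeCycle_swap_mul_swap_same hpq hpr hqr
  rw [← Perm.closure_three_cycles_eq_alternating, Subgroup.closure_le]
  intro τ hτ
  obtain ⟨σ, hσ⟩ := isConj_iff.1 (Perm.isConj_iff_cycleType_eq.2
    ((Perm.IsThreeCycle.cycleType h3).trans (Perm.IsThreeCycle.cycleType hτ).symm))
  rcases Int.units_eq_one_or (Perm.sign σ) with hs | hs
  · exact hσ ▸ hnorm σ hs _ hc
  · have hflip : swap q r * (swap p q * swap p r)⁻¹ * (swap q r)⁻¹ = swap p q * swap p r := by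
      rw [mul_inv_rev, swap_inv, swap_inv, swap_inv]
      ext z
      simp only [Perm.mul_apply, swap_apply_def]
      grind
    have hσ' : σ * swap q r * (swap p q * swap p r)⁻¹ * (σ * swap q r)⁻¹ = τ := by
      rw [← hσ, mul_inv_rev]
      conv_rhs => rw [← hflip]
      group
    refine hσ' ▸ hnorm _ ?_ _ (M.inv_mem hc)
    change Perm.sign (σ * swap q r) = 1
    rw [map_mul, hs, Perm.sign_swap hqr]
    rfl

/-- the reduction to the action on a block system -/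
theorem qp_marggraf [DecidableEq Ω] [FaithfulSMul G Ω]
    (hqp : ∀ N : Subgroup G, N.Normal → N ≠ ⊥ → IsPretransitive N Ω)
    {Γ : Finset Ω} (hJ : IsJordan G Γ) (hm : 1 < Γ.card) (hmn : 2 * Γ.card < Nat.card Ω) :
    alternatingGroup Ω ≤ (MulAction.toPermHom G Ω).range := by
  classical
  obtain ⟨x₀, hx₀, y₀, hy₀, hxy₀⟩ := Finset.one_lt_card.1 hm
  obtain ⟨j₀, hj₀, hj₀fix⟩ := hJ x₀ hx₀ y₀ hy₀
  have hj₀ne : j₀ ≠ 1 := by rintro rfl; rw [one_smul] at hj₀; exact hxy₀ hj₀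
  have hnormal : ∀ N : Subgroup G, N.Normal → N ≠ ⊥ → ∀ u v : Ω, ∃ g ∈ N, g • u = v := by
    intro N hN hne u v
    obtain ⟨⟨g, hg⟩, hguv⟩ := (hqp N hN hne).exists_smul_eq u v
    exact ⟨g, hg, hguv⟩
  have : IsPretransitive G Ω := ⟨fun u v => by
    obtain ⟨g, -, hg⟩ := hnormal ⊤ inferInstance
      (fun h => hj₀ne (Subgroup.mem_bot.1 (h ▸ Subgroup.mem_top j₀))) u v
    exact ⟨g, hg⟩⟩
  by_cases hprim : IsPreprimitive G Ω
  · exact marggraf hprim hJ hm hmn
  exfalso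
  -- a maximal proper block
  have hex : ∃ B : Set Ω, IsBlock G B ∧ B ≠ Set.univ ∧ ¬ B.Subsingleton := by
    by_contra h
    push Not at h
    refine hprim ⟨fun {B} hB => ?_⟩
    by_cases hu : B = Set.univ
    · exact Or.inr hu
    · exact Or.inl (h B hB hu)
  obtain ⟨B, ⟨hB, hBu, hBs⟩, hmax⟩ := (Set.toFinite {B : Set Ω | IsBlock G B ∧ B ≠ Set.univ ∧
    ¬ B.Subsingleton}).exists_maximalFor Set.ncard _ hex
  obtain ⟨a, ha⟩ : B.Nonempty := Set.nonempty_iff_ne_empty.2 fun h => hBs (h ▸ Set.subsingleton_empty)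
  let 𝔅 := MulAction.orbit G B
  have : Fintype 𝔅 := Fintype.ofFinite _
  have hblock : ∀ C : 𝔅, IsBlock G (C : Set Ω) := by
    rintro ⟨_, g, rfl⟩
    exact hB.translate g
  have hex' : ∀ x : Ω, ∃ C : 𝔅, x ∈ (C : Set Ω) := fun x => by
    obtain ⟨g, hg⟩ := exists_smul_eq G a x
    exact ⟨⟨g • B, mem_orbit B g⟩, hg ▸ Set.smul_mem_smul_set ha⟩
  choose π hπ using hex'
  have huniq : ∀ (C : 𝔅) (x : Ω), x ∈ (C : Set Ω) → π x = C := by
    intro C x hx
    obtain ⟨g₁, hg₁⟩ := (π x).2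
    obtain ⟨g₂, hg₂⟩ := C.2
    refine Subtype.ext ?_
    by_contra hne
    simp only at hg₁ hg₂
    rw [← hg₁, ← hg₂] at hne
    exact Set.disjoint_left.1 (hB hne) (hg₁ ▸ hπ x) (hg₂ ▸ hx)
  have heq : ∀ (g : G) (x : Ω), π (g • x) = g • π x := fun g x =>
    huniq _ _ (Set.smul_mem_smul_set (hπ x))
  have hsurj : Function.Surjective π := by
    rintro ⟨C, g, rfl⟩
    exact ⟨g • a, huniq _ _ (Set.smul_mem_smul_set ha)⟩
  have hπB : ∀ x : Ω, π x = π a ↔ x ∈ B := by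
    intro x
    have hπa : π a = ⟨B, mem_orbit_self B⟩ := huniq _ _ ha
    exact ⟨fun h => by simpa [h, hπa] using hπ x, fun h => by rw [hπa]; exact huniq _ _ h⟩
  -- primitivity on blocks
  have h𝔅prim : IsPreprimitive G 𝔅 := by
    refine IsPreprimitive.of_isTrivialBlock_base (π a) fun {C} haC hC => ?_
    let πh : Ω →[G] 𝔅 := { toFun := π, map_smul' := heq }
    have hU : IsBlock G (π ⁻¹' C) := hC.preimage πh
    have hBU : B ⊆ π ⁻¹' C := fun x hx => by rw [Set.mem_preimage, (hπB x).2 hx]; exact haC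
    by_cases hUu : π ⁻¹' C = Set.univ
    · right
      rw [← Set.image_preimage_eq C hsurj, hUu, Set.image_univ, hsurj.range_eq]
    · left
      have hUs : ¬ (π ⁻¹' C).Subsingleton := fun h => hBs (h.anti hBU)
      have hEq : B = π ⁻¹' C := Set.eq_of_subset_of_ncard_le hBU
        (hmax (show π ⁻¹' C ∈ {B : Set Ω | IsBlock G B ∧ B ≠ Set.univ ∧ ¬ B.Subsingleton} from
          ⟨hU, hUu, hUs⟩) (Set.ncard_le_ncard hBU))
      intro u hu v hv
      obtain ⟨x, rfl⟩ := hsurj u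
      obtain ⟨y, rfl⟩ := hsurj v
      have hx : x ∈ B := hEq ▸ hu
      have hy : y ∈ B := hEq ▸ hv
      rw [(hπB x).2 hx, (hπB y).2 hy]
  -- faithfulness on blocks
  have hfaith : ∀ g : G, (∀ C : 𝔅, g • C = C) → g = 1 := by
    intro g hg
    by_contra hg1
    let K : Subgroup G := (MulAction.toPermHom G 𝔅).ker
    have hgK : g ∈ K := MonoidHom.mem_ker.2 (Equiv.ext hg)
    refine hBu (Set.eq_univ_of_forall fun z => ?_)
    obtain ⟨k, hk, hkz⟩ := hnormal K (MonoidHom.normal_ker _)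
      (fun h => hg1 (Subgroup.mem_bot.1 (h ▸ hgK))) a z
    rw [← hπB, ← hkz, heq]
    exact DFunLike.congr_fun (MonoidHom.mem_ker.1 hk) (π a)
  have hfix : ∀ j : G, (∀ z, z ∉ Γ → j • z = z) → ∀ z, z ∉ Γ → j • π z = π z := fun j hj z hz => by
    rw [← heq, hj z hz]
  -- `Γ` is a union of blocks
  have hP2 : ∃ x ∈ Γ, ∃ y ∈ Γ, π x ≠ π y := by
    by_contra h
    push Not at h
    refine hj₀ne (hfaith j₀ fun C => ?_)
    obtain ⟨z, rfl⟩ := hsurj C
    by_cases hz : z ∈ Γ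
    · rw [h z hz x₀ hx₀, ← heq, hj₀, h x₀ hx₀ y₀ hy₀]
    · exact hfix j₀ hj₀fix z hz
  have hunion : ∀ x ∈ Γ, ∀ z, π z = π x → z ∈ Γ := by
    intro x hx z hzx
    by_contra hz
    obtain ⟨u, hu, v, hv, huv⟩ := hP2
    obtain ⟨w, hw, hwx⟩ : ∃ w ∈ Γ, π w ≠ π x := by
      by_cases h : π u = π x
      · exact ⟨v, hv, fun h' => huv (h.trans h'.symm)⟩
      · exact ⟨u, hu, h⟩
    obtain ⟨j, hj, hjfix⟩ := hJ x hx w hw
    refine hwx ?_
    rw [← hj, heq, ← hzx, hfix j hjfix z hz, hzx]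
  set P : Finset 𝔅 := Γ.image π with hP
  have hmemP : ∀ z, π z ∈ P ↔ z ∈ Γ := fun z => by
    refine ⟨fun h => ?_, fun h => Finset.mem_image_of_mem π h⟩
    obtain ⟨x, hx, hxz⟩ := Finset.mem_image.1 h
    exact hunion x hx z hxz.symm
  have hPc : 1 < P.card := by
    obtain ⟨u, hu, v, hv, huv⟩ := hP2
    exact Finset.one_lt_card.2 ⟨π u, (hmemP u).2 hu, π v, (hmemP v).2 hv, huv⟩
  have hfib : ∀ C : 𝔅, (Finset.univ.filter fun z => π z = C).card = B.ncard := by
    intro C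
    have hC : ((Finset.univ.filter fun z => π z = C : Finset Ω) : Set Ω) = (C : Set Ω) := by
      ext z
      simp only [Finset.coe_filter, Finset.mem_univ, true_and, Set.mem_ofPred_eq]
      exact ⟨fun h => h ▸ hπ z, huniq C z⟩
    rw [← Set.ncard_coe_finset, hC]
    obtain ⟨g, hg⟩ := C.2
    simp only at hg
    rw [← hg, Set.ncard_smul_set]
  have hn : Nat.card Ω = Nat.card 𝔅 * B.ncard := by
    rw [Nat.card_eq_fintype_card, Nat.card_eq_fintype_card, ← Finset.card_univ,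
      Finset.card_eq_sum_card_fiberwise (f := π) (t := Finset.univ) (by simp)]
    simp [hfib]
  have hΓc : Γ.card = P.card * B.ncard := by
    rw [Finset.card_eq_sum_card_fiberwise (f := π) (t := P)
      (fun z hz => Finset.mem_coe.2 ((hmemP z).2 (Finset.mem_coe.1 hz)))]
    rw [Finset.sum_congr rfl (g := fun _ => B.ncard) fun C hC => ?_, Finset.sum_const, smul_eq_mul]
    rw [← hfib C]
    congr 1
    ext z
    simp only [Finset.mem_filter, Finset.mem_univ, true_and, and_iff_right_iff_imp]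
    exact fun h => (hmemP z).1 (h ▸ hC)
  have hPN : 2 * P.card < Nat.card 𝔅 := by
    rw [hn, hΓc, ← mul_assoc] at hmn
    exact Nat.lt_of_mul_lt_mul_right hmn
  have hJP : IsJordan G P := by
    intro C hC D hD
    obtain ⟨x, hx, rfl⟩ := Finset.mem_image.1 hC
    obtain ⟨y, hy, rfl⟩ := Finset.mem_image.1 hD
    obtain ⟨j, hj, hjfix⟩ := hJ x hx y hy
    refine ⟨j, by rw [← heq, hj], fun E hE => ?_⟩
    obtain ⟨z, rfl⟩ := hsurj E
    exact hfix j hjfix z fun h => hE ((hmemP z).2 h)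
  have hAlt := marggraf h𝔅prim hJP hPc hPN
  let φ := MulAction.toPermHom G 𝔅
  -- the pointwise stabilizer of a block outside
  obtain ⟨B₀, hB₀⟩ : ∃ B₀ : 𝔅, B₀ ∉ P := by
    by_contra h
    push Not at h
    have := Finset.card_le_card (s := (Finset.univ : Finset 𝔅)) (fun C _ => h C)
    rw [Finset.card_univ, ← Nat.card_eq_fintype_card] at this
    omega
  let Kb : Subgroup G := fixingSubgroup G (B₀ : Set Ω)
  have hKb : ∀ k : G, k ∈ Kb ↔ ∀ z, π z = B₀ → k • z = z := fun k => by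
    rw [mem_fixingSubgroup_iff]
    exact ⟨fun h z hz => h z (hz ▸ hπ z), fun h z hz => h z (huniq _ z hz)⟩
  have hconj : ∀ g : G, g • B₀ = B₀ → ∀ k ∈ Kb, g * k * g⁻¹ ∈ Kb := by
    intro g hg k hk
    rw [hKb] at hk ⊢
    intro z hz
    rw [mul_smul, mul_smul, hk _ (by rw [heq, hz, inv_smul_eq_iff, hg]), smul_inv_smul]
  let S := {C : 𝔅 // C ≠ B₀}
  let M : Subgroup (Perm S) := (Kb.map φ).comap Perm.ofSubtype
  have hlift : ∀ σ : Perm 𝔅, Perm.sign σ = 1 → ∃ g : G, φ g = σ := fun σ hσ => hAlt hσ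
  have hnorm : ∀ σ ∈ alternatingGroup S, ∀ x ∈ M, σ * x * σ⁻¹ ∈ M := by
    intro σ hσ x hx
    obtain ⟨k, hk, hkx⟩ := Subgroup.mem_map.1 (Subgroup.mem_comap.1 hx)
    obtain ⟨g, hg⟩ := hlift (Perm.ofSubtype σ) (by rw [Perm.sign_ofSubtype]; exact hσ)
    refine Subgroup.mem_comap.2 (Subgroup.mem_map.2 ⟨g * k * g⁻¹, hconj g ?_ k hk, ?_⟩)
    · rw [show g • B₀ = φ g B₀ from rfl, hg, Perm.ofSubtype_apply_of_not_mem]
      simp
    · rw [map_mul, map_mul, map_inv, hg, hkx, map_mul, map_mul, map_inv]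
  -- one three-cycle
  obtain ⟨p, hp, q, hq, hpq⟩ := Finset.one_lt_card.1 hPc
  obtain ⟨x, hx, rfl⟩ := Finset.mem_image.1 hp
  obtain ⟨y, hy, rfl⟩ := Finset.mem_image.1 hq
  obtain ⟨j, hj, hjfix⟩ := hJ x hx y hy
  obtain ⟨r, hr, r', hr', hrr'⟩ : ∃ r, r ∈ (insert B₀ P)ᶜ ∧ ∃ r', r' ∈ (insert B₀ P)ᶜ ∧ r ≠ r' := by
    refine Finset.one_lt_card.1 ?_
    rw [Finset.card_compl, Finset.card_insert_of_notMem hB₀, ← Nat.card_eq_fintype_card]
    omega
  simp only [Finset.mem_compl, Finset.mem_insert, not_or] at hr hr'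
  have hxB : π x ≠ B₀ := fun h => hB₀ (h ▸ hp)
  have hyB : π y ≠ B₀ := fun h => hB₀ (h ▸ hq)
  have hpr : π x ≠ r := fun h => hr.2 (h ▸ hp)
  have hpr' : π x ≠ r' := fun h => hr'.2 (h ▸ hp)
  have hqr : π y ≠ r := fun h => hr.2 (h ▸ hq)
  have hqr' : π y ≠ r' := fun h => hr'.2 (h ▸ hq)
  have hjC : ∀ C, C ∉ P → φ j C = C := fun C hC => by
    obtain ⟨z, rfl⟩ := hsurj C
    exact hfix j hjfix z fun h => hC ((hmemP z).2 h)
  obtain ⟨t, ht⟩ := hlift (swap (π x) r' * swap (π x) r) (by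
    rw [map_mul, Perm.sign_swap hpr', Perm.sign_swap hpr]; rfl)
  have htB : t • B₀ = B₀ := by
    rw [show t • B₀ = φ t B₀ from rfl, ht, Perm.mul_apply,
      swap_apply_of_ne_of_ne hxB.symm (Ne.symm hr.1), swap_apply_of_ne_of_ne hxB.symm (Ne.symm hr'.1)]
  have hjK : j ∈ Kb := (hKb j).2 fun z hz => hjfix z fun h => hB₀ (hz ▸ (hmemP z).2 h)
  have hcM : j * (t * j⁻¹ * t⁻¹) ∈ Kb := Kb.mul_mem hjK (hconj t htB _ (Kb.inv_mem hjK))
  have hjx : φ j (π x) = π y := by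
    change j • π x = π y
    rw [← heq, hj]
  have hcval : φ (j * (t * j⁻¹ * t⁻¹)) = swap (π x) r * swap (π x) (π y) := by
    simp only [map_mul, map_inv, ht, mul_inv_rev, swap_inv]
    have h1 : φ j * swap (π x) r' * (φ j)⁻¹ = swap (π y) r' := by
      rw [mul_swap_eq_swap_mul, mul_inv_cancel_right, hjx, hjC r' hr'.2]
    have h2 : φ j * swap (π x) r * (φ j)⁻¹ = swap (π y) r := by
      rw [mul_swap_eq_swap_mul, mul_inv_cancel_right, hjx, hjC r hr.2]
    rw [← four_swaps hpq hpr hpr' hqr hqr' hrr', ← h1, ← h2]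
    group
  let p' : S := ⟨π x, hxB⟩
  let q' : S := ⟨π y, hyB⟩
  let r₁ : S := ⟨r, hr.1⟩
  have hcS : swap p' r₁ * swap p' q' ∈ M := by
    refine Subgroup.mem_comap.2 (Subgroup.mem_map.2 ⟨_, hcM, ?_⟩)
    rw [hcval, map_mul, Perm.ofSubtype_swap_eq, Perm.ofSubtype_swap_eq]
  have hAltS := alt_le_of_threeCycle (M := M) (fun h => hpr (congrArg Subtype.val h))
    (fun h => hpq (congrArg Subtype.val h)) (fun h => hqr (congrArg Subtype.val h).symm) hcS hnorm
  have hpt : ∀ g : G, Perm.sign (φ g) = 1 → g • B₀ = B₀ → g ∈ Kb := by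
    intro g hg hgB
    have hiff : ∀ C, φ g C ≠ B₀ ↔ C ≠ B₀ := fun C => by
      refine not_congr ⟨fun h => (φ g).injective (h.trans hgB.symm), fun h => h ▸ hgB⟩
    have hsup : ∀ C, φ g C ≠ C → C ≠ B₀ := fun C hC h => hC (h ▸ hgB)
    have hmem : Perm.subtypePerm (φ g) hiff ∈ M :=
      hAltS (show Perm.sign _ = 1 by rw [Perm.sign_subtypePerm _ hiff hsup]; exact hg)
    obtain ⟨k, hk, hkg⟩ := Subgroup.mem_map.1 (Subgroup.mem_comap.1 hmem)
    rw [Perm.ofSubtype_subtypePerm hiff hsup] at hkg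
    have : k⁻¹ * g = 1 := hfaith _ fun C => by
      have h := DFunLike.congr_fun hkg C
      rw [mul_smul, inv_smul_eq_iff]
      exact h.symm
    rwa [← inv_mul_eq_one.1 this]
  let N : Subgroup G := (alternatingGroup 𝔅).comap φ
  have hNne : N ≠ ⊥ := fun h => by
    have htN : t ∈ N := Subgroup.mem_comap.2 (show Perm.sign (φ t) = 1 by
      rw [ht, map_mul, Perm.sign_swap hpr', Perm.sign_swap hpr]; rfl)
    rw [h, Subgroup.mem_bot] at htN
    have h1 := DFunLike.congr_fun ht (π x)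
    rw [htN, map_one, Perm.one_apply, Perm.mul_apply, swap_apply_left,
      swap_apply_of_ne_of_ne hpr.symm hrr'] at h1
    exact hpr h1
  have hinj : Function.Injective π := by
    obtain ⟨z₀, hz₀⟩ := hsurj B₀
    intro u v huv
    obtain ⟨g, hg, rfl⟩ := hnormal N ((alternatingGroup 𝔅).normal_comap φ) hNne z₀ u
    obtain ⟨g', hg', rfl⟩ := hnormal N ((alternatingGroup 𝔅).normal_comap φ) hNne z₀ v
    rw [heq, heq, hz₀] at huv
    have hk := (hKb _).1 (hpt (g⁻¹ * g') (Subgroup.mem_comap.1 (N.mul_mem (N.inv_mem hg) hg'))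
      (by rw [mul_smul, ← huv, inv_smul_smul])) z₀ hz₀
    rw [mul_smul, inv_smul_eq_iff] at hk
    exact hk.symm
  exact hBs fun u hu v hv => hinj (((hπB u).2 hu).trans ((hπB v).2 hv).symm)

end Cfsg.Agent.Lib.RecogThree.Marggraf
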