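import Mathlib

/-! Permutations of prime order fixing a partition into `b` parts of size `a`. -/

set_option autoImplicit false

namespace Cfsg.Agent.Lib.RecogThree.PartitionFixed

open Equiv

/-- the numerical condition for a permutation with `s` cycles of length `r` -/
def Good (a b r s : ℕ) : Prop :=
  ∃ c t : ℕ, r * c ≤ b ∧ t ≤ (b - r * c) * (a / r) ∧ s = c * a + t

theorem exists_perm_support {X : Type*} [Fintype X] [DecidableEq X] {r k : ℕ} (hr : r.Prime)
    (hk : r * k ≤ Fintype.card X) : ∃ σ : Perm X, σ ^ r = 1 ∧ σ.support.card = r * k := by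
  have := Fact.mk hr
  obtain ⟨σ, hσ⟩ := (Perm.exists_with_cycleType_iff (α := X) (m := Multiset.replicate k r)).2
    ⟨by rw [Multiset.sum_replicate, smul_eq_mul, mul_comm]; exact hk,
      fun n hn => by rw [Multiset.eq_of_mem_replicate hn]; exact hr.two_le⟩
  refine ⟨σ, Perm.pow_prime_eq_one_iff.2 fun c hc => Multiset.eq_of_mem_replicate (hσ ▸ hc), ?_⟩
  rw [← Perm.sum_cycleType, hσ, Multiset.sum_replicate, smul_eq_mul, mul_comm]

theorem cycleType_eq {X : Type*} [Fintype X] [DecidableEq X] {r s : ℕ} (hr : r.Prime) {σ : Perm X}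
    (h1 : σ ^ r = 1) (h2 : σ.support.card = r * s) : σ.cycleType = Multiset.replicate s r := by
  have := Fact.mk hr
  have h := Perm.cycleType_of_pow_prime_eq_one h1
  have h3 := σ.sum_cycleType
  rw [h, Multiset.sum_replicate, smul_eq_mul, h2, mul_comm r s] at h3
  rw [h, Nat.eq_of_mul_eq_mul_right hr.pos h3]

theorem dvd_card_support {X : Type*} [Fintype X] [DecidableEq X] {r : ℕ} (hr : r.Prime) {σ : Perm X}
    (h1 : σ ^ r = 1) : r ∣ σ.support.card := by
  have := Fact.mk hr
  rw [← Perm.sum_cycleType, Perm.cycleType_of_pow_prime_eq_one h1, Multiset.sum_replicate,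
    smul_eq_mul]
  exact dvd_mul_left r _

theorem exists_weights {ι : Type*} (F : Finset ι) (α : ℕ) :
    ∀ t ≤ F.card * α, ∃ g : ι → ℕ, (∀ i, g i ≤ α) ∧ ∑ i ∈ F, g i = t := by
  classical
  induction F using Finset.induction_on with
  | empty =>
    intro t ht
    refine ⟨fun _ => 0, fun _ => Nat.zero_le _, ?_⟩
    simp only [Finset.card_empty, zero_mul, nonpos_iff_eq_zero] at ht
    simp [ht]
  | @insert x F hx ih =>
    intro t ht
    rw [Finset.card_insert_of_notMem hx, add_one_mul] at ht
    obtain ⟨g, hg, hs⟩ := ih (t - min α t) (by omega)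
    refine ⟨Function.update g x (min α t), fun i => ?_, ?_⟩
    · rcases eq_or_ne i x with rfl | hi
      · rw [Function.update_self]; exact min_le_left _ _
      · rw [Function.update_of_ne hi]; exact hg i
    · have e : ∀ i ∈ F, Function.update g x (min α t) i = g i := fun i hi =>
        Function.update_of_ne (show i ≠ x from fun h => hx (h ▸ hi)) _ _
      rw [Finset.sum_insert hx, Function.update_self, Finset.sum_congr rfl e, hs]
      omega

theorem model {a b r s : ℕ} (hr : r.Prime) (h : Good a b r s) :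
    ∃ τ : Perm (Fin b × Fin a), τ ^ r = 1 ∧ τ.support.card = r * s ∧
      ∃ π : Perm (Fin b), ∀ p, (τ p).1 = π p.1 := by
  classical
  obtain ⟨c, t, hc, ht, hs⟩ := h
  obtain ⟨π, hπ, hπc⟩ := exists_perm_support (X := Fin b) hr (k := c) (by simpa using hc)
  obtain ⟨g, hg, hsum⟩ := exists_weights π.supportᶜ (a / r) t
    (by rw [Finset.card_compl, hπc, Fintype.card_fin]; exact ht)
  have hex : ∀ i : Fin b, ∃ ρ : Perm (Fin a), ρ ^ r = 1 ∧
      ρ.support.card = if π i = i then r * g i else 0 := by
    intro i
    split_ifs with hi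
    · refine exists_perm_support hr ?_
      rw [Fintype.card_fin]
      exact le_trans (Nat.mul_le_mul_left r (hg i)) (Nat.mul_div_le a r)
    · exact ⟨1, one_pow _, by simp⟩
  choose ρ hρ hρc using hex
  have hone : ∀ i, π i ≠ i → ρ i = 1 := fun i hi => by
    have := hρc i
    rw [if_neg hi, Finset.card_eq_zero, Perm.support_eq_empty_iff] at this
    exact this
  let τ : Perm (Fin b × Fin a) := (Equiv.prodCongrRight ρ).trans (Equiv.prodCongr π (Equiv.refl _))
  have happ : ∀ p, τ p = (π p.1, ρ p.1 p.2) := fun p => rfl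
  have hpow : ∀ (n : ℕ) (p : Fin b × Fin a), (τ ^ n) p = ((π ^ n) p.1, (ρ p.1 ^ n) p.2) := by
    intro n
    induction n with
    | zero => intro p; rfl
    | succ n ih =>
      intro p
      rw [pow_succ', Perm.mul_apply, ih, happ]
      simp only [pow_succ', Perm.mul_apply]
      refine Prod.ext rfl ?_
      simp only
      rcases eq_or_ne (π p.1) p.1 with h' | h'
      · rw [Perm.pow_apply_eq_self_of_apply_eq_self h']
      · have h2 : π ((π ^ n) p.1) ≠ (π ^ n) p.1 := fun e => h' ((π ^ n).injective (by
          rw [← Perm.mul_apply, ← pow_succ, pow_succ', Perm.mul_apply]; exact e))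
        simp [hone _ h2, hone _ h']
  refine ⟨τ, ?_, ?_, π, fun p => rfl⟩
  · ext p : 1
    rw [hpow, hπ, hρ]
    rfl
  · have key : ∀ i : Fin b, (τ.support.filter fun p => p.1 = i).card =
        if π i = i then r * g i else a := by
      intro i
      rcases eq_or_ne (π i) i with h' | h'
      · have h1 := hρc i
        rw [if_pos h'] at h1 ⊢
        rw [← h1]
        refine Finset.card_nbij' Prod.snd (fun j => (i, j)) ?_ ?_ ?_ (fun _ _ => rfl)
        · intro p hp
          simp only [Finset.coe_filter, Set.mem_ofPred_eq, Finset.mem_coe, Perm.mem_support] at hp ⊢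
          obtain ⟨h2, rfl⟩ := hp
          exact fun h3 => h2 (by rw [happ, h', h3])
        · intro j hj
          simp only [Finset.coe_filter, Set.mem_ofPred_eq, Finset.mem_coe, Perm.mem_support] at hj ⊢
          exact ⟨fun h2 => hj (congrArg Prod.snd h2), trivial⟩
        · intro p hp
          simp only [Finset.coe_filter, Set.mem_ofPred_eq, Finset.mem_coe] at hp
          exact Prod.ext hp.2.symm rfl
      · rw [if_neg h']
        have : (τ.support.filter fun p => p.1 = i) = ({i} : Finset (Fin b)) ×ˢ Finset.univ := by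
          ext ⟨j, k⟩
          simp only [Finset.mem_filter, Perm.mem_support, Finset.mem_product, Finset.mem_singleton,
            Finset.mem_univ, and_true, and_iff_right_iff_imp]
          rintro rfl h2
          exact h' (congrArg Prod.fst h2)
        rw [this, Finset.card_product]
        simp
    rw [Finset.card_eq_sum_card_fiberwise (f := Prod.fst) (t := Finset.univ) (by simp),
      Finset.sum_congr rfl (fun i _ => key i), Finset.sum_ite, Finset.sum_const, smul_eq_mul]
    have e1 : (Finset.univ.filter fun i => π i = i) = π.supportᶜ := by ext; simp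
    have e2 : (Finset.univ.filter fun i => ¬ π i = i) = π.support := by ext; simp
    rw [e1, e2, ← Finset.mul_sum, hsum, hπc, hs]
    ring

theorem fixable {a b r s : ℕ} (hr : r.Prime) (h : Good a b r s) (σ : Perm (Fin (a * b)))
    (h1 : σ ^ r = 1) (h2 : σ.support.card = r * s) :
    ∃ f : Fin (a * b) → Fin b, (∀ j : Fin b, Nat.card {x : Fin (a * b) // f x = j} = a) ∧
      ∃ π : Perm (Fin b), ∀ x, f (σ x) = π (f x) := by
  classical
  obtain ⟨τ, hτ1, hτ2, π, hπ⟩ := model hr h
  let e : Fin b × Fin a ≃ Fin (a * b) := finProdFinEquiv.trans (finCongr (mul_comm b a))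
  let τ' : Perm (Fin (a * b)) := e.permCongr τ
  have hτ'1 : τ' ^ r = 1 := by
    change (e.permCongrHom τ) ^ r = 1
    rw [← map_pow, hτ1, map_one]
  have hτ'2 : τ'.support.card = r * s := by
    rw [← hτ2]
    refine (Finset.card_equiv e fun p => ?_).symm
    simp [τ', Perm.mem_support, Equiv.permCongr_apply]
  obtain ⟨u, hu⟩ := isConj_iff.1 (Perm.isConj_iff_cycleType_eq.2
    ((cycleType_eq hr hτ'1 hτ'2).trans (cycleType_eq hr h1 h2).symm))
  refine ⟨fun x => (e.symm (u.symm x)).1, fun j => ?_, π, fun x => ?_⟩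
  · calc Nat.card {x : Fin (a * b) // (e.symm (u.symm x)).1 = j}
        = Nat.card {p : Fin b × Fin a // p.1 = j} :=
          Nat.card_congr (((e.trans u).symm).subtypeEquiv fun x => Iff.rfl)
      _ = Nat.card (Fin a) :=
          Nat.card_congr
            { toFun := fun p => p.1.2
              invFun := fun k => ⟨(j, k), rfl⟩
              left_inv := fun ⟨⟨i, k⟩, hp⟩ => by cases hp; rfl
              right_inv := fun k => rfl }
      _ = a := Nat.card_fin a
  · have hσx : u.symm (σ x) = τ' (u.symm x) := by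
      rw [← hu]
      simp
    simp only [hσx, τ', Equiv.permCongr_apply, Equiv.symm_apply_apply]
    exact hπ _

theorem good_of_fixed {a b r s : ℕ} (hr : r.Prime) (ha : 0 < a) (σ : Perm (Fin (a * b)))
    (h1 : σ ^ r = 1) (h2 : σ.support.card = r * s) (f : Fin (a * b) → Fin b)
    (hf : ∀ j : Fin b, Nat.card {x : Fin (a * b) // f x = j} = a) (π : Perm (Fin b))
    (hπ : ∀ x, f (σ x) = π (f x)) : Good a b r s := by
  classical
  have hfib : ∀ j, (Finset.univ.filter fun x => f x = j).card = a := fun j => by
    conv_rhs => rw [← hf j]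
    rw [Nat.card_eq_fintype_card, Fintype.card_subtype]
  have hsurj : Function.Surjective f := fun j => by
    obtain ⟨x, hx⟩ := Finset.card_pos.1 (show 0 < (Finset.univ.filter fun x => f x = j).card by
      rw [hfib j]; exact ha)
    exact ⟨x, (Finset.mem_filter.1 hx).2⟩
  have hπn : ∀ (n : ℕ) x, f ((σ ^ n) x) = (π ^ n) (f x) := by
    intro n
    induction n with
    | zero => intro x; rfl
    | succ n ih => intro x; rw [pow_succ', Perm.mul_apply, hπ, ih, pow_succ', Perm.mul_apply]
  have hπr : π ^ r = 1 := by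
    ext j : 1
    obtain ⟨x, rfl⟩ := hsurj j
    rw [← hπn, h1]
    rfl
  obtain ⟨c, hc⟩ := dvd_card_support hr hπr
  have hπb : π.support.card ≤ b := (Finset.card_le_univ _).trans (Fintype.card_fin b).le
  have hkey : ∀ j, π j = j → ∃ k ≤ a / r, (σ.support.filter fun x => f x = j).card = r * k := by
    intro j hj
    have hinv : ∀ x, f (σ x) = j ↔ f x = j := fun x => by
      rw [hπ]
      exact ⟨fun h => π.injective (h.trans hj.symm), fun h => by rw [h, hj]⟩
    let ρ : Perm {x // f x = j} := σ.subtypePerm hinv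
    have hρ : ρ ^ r = 1 := by
      rw [Perm.subtypePerm_pow]
      ext x
      simp [h1]
    have hcard : (σ.support.filter fun x => f x = j).card = ρ.support.card := by
      symm
      refine Finset.card_bij (fun x _ => (x : Fin (a * b))) ?_ ?_ ?_
      · intro x hx
        rw [Perm.mem_support] at hx
        exact Finset.mem_filter.2 ⟨Perm.mem_support.2 fun h => hx (Subtype.ext h), x.2⟩
      · exact fun x _ y _ h => Subtype.ext h
      · intro x hx
        rw [Finset.mem_filter, Perm.mem_support] at hx
        exact ⟨⟨x, hx.2⟩, Perm.mem_support.2 fun h => hx.1 (congrArg Subtype.val h), rfl⟩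
    obtain ⟨k, hk⟩ := dvd_card_support hr hρ
    refine ⟨k, (Nat.le_div_iff_mul_le hr.pos).2 ?_, hcard.trans hk⟩
    rw [mul_comm, ← hk, ← hcard]
    refine le_of_le_of_eq (Finset.card_le_card ?_) (hfib j)
    exact Finset.filter_subset_filter _ (Finset.subset_univ _)
  have hmoved : ∀ j, π j ≠ j → (σ.support.filter fun x => f x = j).card = a := by
    intro j hj
    refine Eq.trans (congrArg Finset.card ?_) (hfib j)
    ext x
    simp only [Finset.mem_filter, Perm.mem_support, Finset.mem_univ, true_and, and_iff_right_iff_imp]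
    intro hx he
    exact hj (by rw [← hx, ← hπ, he])
  choose! k hk hkc using hkey
  refine ⟨c, ∑ j ∈ π.supportᶜ, k j, hc ▸ hπb, ?_, ?_⟩
  · refine le_trans (Finset.sum_le_card_nsmul _ _ (a / r) fun j hj => hk j ?_) ?_
    · simpa using hj
    · rw [Finset.card_compl, Fintype.card_fin, hc, smul_eq_mul]
  · refine Nat.eq_of_mul_eq_mul_left hr.pos ?_
    rw [← h2, Finset.card_eq_sum_card_fiberwise (f := f) (t := Finset.univ) (by simp),
      ← Finset.sum_add_sum_compl π.support,
      Finset.sum_congr rfl (fun j hj => hmoved j (Perm.mem_support.1 hj)),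
      Finset.sum_congr rfl (fun j hj => hkc j (by simpa using hj)), Finset.sum_const, smul_eq_mul,
      hc, ← Finset.mul_sum]
    ring

theorem numeric {a b r : ℕ} (hr : 0 < r) (ha : 2 ≤ a) (hb : 2 ≤ b) (hrn : r ≤ a * b) :
    (∀ s, 1 ≤ s → r * s ≤ a * b → Good a b r s) ↔
      (r ≤ a ∧ (a % r = 0 ∨ (b % r = 0 ∧ a % r = 1) ∨
        (a % r ≠ 0 ∧ b % r ≠ 0 ∧ (b % r) * (a % r) < r ∧
          (b < r ∨ (b % r + r) * (a % r) ≤ (b % r) * a + r)))) := by
  obtain ⟨α, l, hl, rfl⟩ : ∃ α l, l < r ∧ a = r * α + l :=
    ⟨a / r, a % r, Nat.mod_lt _ hr, (Nat.div_add_mod a r).symm⟩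
  obtain ⟨β, k, hk, rfl⟩ : ∃ β k, k < r ∧ b = r * β + k :=
    ⟨b / r, b % r, Nat.mod_lt _ hr, (Nat.div_add_mod b r).symm⟩
  have hal : (r * α + l) % r = l := by rw [Nat.mul_add_mod, Nat.mod_eq_of_lt hl]
  have hbk : (r * β + k) % r = k := by rw [Nat.mul_add_mod, Nat.mod_eq_of_lt hk]
  have hq : (r * α + l) / r = α := by
    rw [Nat.mul_add_div hr, Nat.div_eq_of_lt hl, add_zero]
  have hgood : ∀ s, Good (r * α + l) (r * β + k) r s ↔
      ∃ c, c ≤ β ∧ c * (r * α + l) ≤ s ∧ s ≤ c * l + (r * β + k) * α := by
    intro s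
    unfold Good
    rw [hq]
    constructor
    · rintro ⟨c, t, hc, ht, rfl⟩
      obtain ⟨d, hd⟩ := Nat.exists_eq_add_of_le hc
      refine ⟨c, ?_, Nat.le_add_right _ _, ?_⟩
      · by_contra hh
        have : r * (β + 1) ≤ r * c := Nat.mul_le_mul_left r (by omega)
        rw [Nat.mul_succ] at this
        omega
      · rw [hd, Nat.add_sub_cancel_left] at ht
        rw [hd]
        nlinarith [ht]
    · rintro ⟨c, hc, h1, h2⟩
      obtain ⟨t, rfl⟩ := Nat.exists_eq_add_of_le h1
      obtain ⟨d, hd⟩ := Nat.exists_eq_add_of_le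
        (le_trans (Nat.mul_le_mul_left r hc) (Nat.le_add_right _ k))
      refine ⟨c, t, hd ▸ Nat.le_add_right _ _, ?_, rfl⟩
      rw [hd, Nat.add_sub_cancel_left]
      rw [hd] at h2
      nlinarith [h2]
  simp only [hgood]
  rw [hal, hbk]
  constructor
  · intro h
    have hα : 1 ≤ α := by
      by_contra hh
      obtain rfl : α = 0 := by omega
      obtain ⟨c, -, h1, h2⟩ := h 1 le_rfl (by rwa [mul_one])
      simp only [mul_zero, zero_add, add_zero] at h1 h2 ha
      rcases Nat.eq_zero_or_pos c with rfl | hc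
      · simp at h2
      · nlinarith [Nat.mul_le_mul hc ha]
    refine ⟨le_trans (Nat.le_mul_of_pos_right r hα) (Nat.le_add_right _ _), ?_⟩
    rcases Nat.eq_zero_or_pos l with rfl | hl0
    · exact Or.inl rfl
    have hkl : k * l < r := by
      by_contra hh
      push Not at hh
      obtain ⟨c, hc, h1, h2⟩ := h ((r * β + k) * α + β * l + 1) (by omega) (by nlinarith)
      nlinarith [Nat.mul_le_mul_right l hc]
    have hgap : β = 0 ∨ l ≤ k * α + 1 := by
      rcases Nat.eq_zero_or_pos β with hβ | hβ
      · exact Or.inl hβ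
      · refine Or.inr ?_
        by_contra hh
        push Not at hh
        obtain ⟨s, hs⟩ : ∃ s, β * (r * α + l) = s + 1 :=
          ⟨β * (r * α + l) - 1, by have := Nat.le_mul_of_pos_left (r * α + l) hβ; omega⟩
        obtain ⟨c, hc, h1, h2⟩ := h s (by nlinarith) (by nlinarith)
        have hcβ : c + 1 ≤ β := by
          by_contra hh'
          obtain rfl : c = β := by omega
          omega
        nlinarith [Nat.mul_le_mul_right l hcβ]
    rcases Nat.eq_zero_or_pos k with rfl | hk0
    · refine Or.inr (Or.inl ⟨rfl, ?_⟩)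
      rcases hgap with rfl | h'
      · simp at hb
      · omega
    · refine Or.inr (Or.inr ⟨by omega, by omega, hkl, ?_⟩)
      rcases hgap with rfl | h'
      · left; omega
      · right
        nlinarith [Nat.mul_le_mul_left r h']
  · rintro ⟨hra, hcase⟩ s hs1 hs
    have hkl : k * l < r := by
      rcases hcase with rfl | ⟨rfl, -⟩ | ⟨-, -, h, -⟩
      · simpa using hr
      · simpa using hr
      · exact h
    have hgap : β = 0 ∨ l ≤ k * α + 1 := by
      rcases hcase with rfl | ⟨rfl, hl'⟩ | ⟨-, -, -, h⟩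
      · right; omega
      · right; omega
      · rcases h with h | h
        · left
          rcases Nat.eq_zero_or_pos β with hβ | hβ
          · exact hβ
          · nlinarith [Nat.mul_le_mul_left r hβ]
        · right
          refine Nat.le_of_mul_le_mul_left ?_ hr
          nlinarith
    have hmax : s ≤ β * l + (r * β + k) * α := by
      by_contra hh
      push Not at hh
      nlinarith [Nat.mul_le_mul_left r (Nat.succ_le_of_lt hh)]
    have hex : ∃ c, s ≤ c * l + (r * β + k) * α := ⟨β, hmax⟩
    classical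
    refine ⟨Nat.find hex, Nat.find_le hmax, ?_, Nat.find_spec hex⟩
    rcases Nat.eq_zero_or_pos (Nat.find hex) with h0 | h0
    · rw [h0]; simp
    · obtain ⟨c, hc⟩ : ∃ c, Nat.find hex = c + 1 := ⟨Nat.find hex - 1, by omega⟩
      have hlt := Nat.find_min hex (show c < Nat.find hex by omega)
      have hcβ : c + 1 ≤ β := hc ▸ Nat.find_le hmax
      rw [hc]
      rcases hgap with hβ | h'
      · omega
      · push Not at hlt
        nlinarith [Nat.mul_le_mul_right (r * α) hcβ]

end Cfsg.Agent.Lib.RecogThree.PartitionFixed
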